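import Mathlib
import Cfsg.Agent.Base
import Cfsg.Agent.Lib.Perm.Basic
import Cfsg.Agent.S4221

/-! Four-fold transitive groups: pointwise stabilisers, fixed points, Hall's theorem. -/

set_option autoImplicit false
set_option linter.style.haveILetI false
set_option linter.unusedSectionVars false

namespace H41.Q4

open Subgroup MulAction
open scoped Pointwise

variable {G Ω : Type*} [Group G] [MulAction G Ω]

/-- Four distinct points. -/
structure D4 (a b c d : Ω) : Prop where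
  ab : a ≠ b
  ac : a ≠ c
  ad : a ≠ d
  bc : b ≠ c
  bd : b ≠ d
  cd : c ≠ d

/-- The pointwise stabiliser. -/
def HH (G : Type*) [Group G] [MulAction G Ω] (T : Finset Ω) : Subgroup G where
  carrier := {x | ∀ a ∈ T, x • a = a}
  mul_mem' hx hy a ha := by rw [mul_smul, hy a ha, hx a ha]
  one_mem' a _ := one_smul G a
  inv_mem' hx a ha := inv_smul_eq_iff.2 (hx a ha).symm

/-- The setwise stabiliser. -/
def SS (G : Type*) [Group G] [MulAction G Ω] (T : Finset Ω) : Subgroup G where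
  carrier := {x | ∀ a, x • a ∈ T ↔ a ∈ T}
  mul_mem' hx hy a := by rw [mul_smul, hx, hy]
  one_mem' a := by rw [one_smul]
  inv_mem' {x} hx a := by rw [← hx, smul_inv_smul]

variable {T U : Finset Ω} {g x y : G} {a b c d : Ω}

theorem mem_HH : x ∈ HH G T ↔ ∀ a ∈ T, x • a = a := Iff.rfl

theorem mem_SS : x ∈ SS G T ↔ ∀ a, x • a ∈ T ↔ a ∈ T := Iff.rfl

theorem HH_mono (h : T ⊆ U) : HH G U ≤ HH G T := fun _ hx a ha => hx a (h ha)

theorem HH_le_SS : HH G T ≤ SS G T := fun x hx a =>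
  ⟨fun h => by rwa [smul_left_cancel x (hx _ h)] at h, fun h => by rwa [hx a h]⟩

theorem conj_HH (hg : g ∈ SS G T) (hx : x ∈ HH G T) : g * x * g⁻¹ ∈ HH G T := fun a ha => by
  rw [mul_smul, mul_smul, hx _ (((SS G T).inv_mem hg a).2 ha), smul_inv_smul]

theorem mem_SS_of (h : ∀ a ∈ T, x • a ∈ T) : x ∈ SS G T := fun a => by
  classical
  refine ⟨fun ha => ?_, h a⟩
  have h1 : T.image (x • ·) = T := Finset.eq_of_subset_of_card_le
    (Finset.image_subset_iff.2 h) (Finset.card_image_of_injective _ (MulAction.injective x)).ge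
  obtain ⟨b, hb, e⟩ := Finset.mem_image.1 (h1.ge ha)
  rwa [← MulAction.injective x e]

theorem D4.smul (h : D4 a b c d) (g : G) : D4 (g • a) (g • b) (g • c) (g • d) :=
  have i := MulAction.injective (β := Ω) g
  ⟨i.ne h.ab, i.ne h.ac, i.ne h.ad, i.ne h.bc, i.ne h.bd, i.ne h.cd⟩

section
variable [DecidableEq Ω]

theorem D4.card (h : D4 a b c d) : ({a, b, c, d} : Finset Ω).card = 4 :=
  Finset.card_eq_four.2 ⟨a, b, c, d, h.ab, h.ac, h.ad, h.bc, h.bd, h.cd, rfl⟩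

theorem exists_D4 (h : T.card = 4) : ∃ a b c d, D4 a b c d ∧ T = {a, b, c, d} := by
  obtain ⟨a, b, c, d, h1, h2, h3, h4, h5, h6, e⟩ := Finset.card_eq_four.1 h
  exact ⟨a, b, c, d, ⟨h1, h2, h3, h4, h5, h6⟩, e⟩

theorem mem_HH4 : x ∈ HH G {a, b, c, d} ↔ x • a = a ∧ x • b = b ∧ x • c = c ∧ x • d = d := by
  simp [mem_HH]

theorem mem_HH3 : x ∈ HH G {a, b, c} ↔ x • a = a ∧ x • b = b ∧ x • c = c := by
  simp [mem_HH]

theorem conj_HH_smul (g : G) (hx : x ∈ HH G T) : g * x * g⁻¹ ∈ HH G (g • T) := fun a ha => by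
  obtain ⟨b, hb, rfl⟩ := Finset.mem_smul_finset.1 ha
  rw [mul_smul, mul_smul, inv_smul_smul, hx b hb]

theorem smul_eq_of_SS (hg : g ∈ SS G T) : g • T = T := by
  ext a
  rw [← Finset.inv_smul_mem_iff, (SS G T).inv_mem hg]

theorem smul4 (g : G) : g • ({a, b, c, d} : Finset Ω) = {g • a, g • b, g • c, g • d} := by
  simp [Finset.smul_finset_insert]

end

variable [Fintype Ω]

open Classical in
/-- The fixed points of a subgroup. -/
noncomputable def fx (Ω : Type*) [Fintype Ω] [MulAction G Ω] (D : Subgroup G) : Finset Ω :=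
  Finset.univ.filter fun a => ∀ x ∈ D, x • a = a

open Classical in
/-- The fixed points of an element. -/
noncomputable def fe (Ω : Type*) [Fintype Ω] [MulAction G Ω] (x : G) : Finset Ω :=
  Finset.univ.filter fun a => x • a = a

variable {D : Subgroup G}

theorem mem_fx : a ∈ fx Ω D ↔ ∀ x ∈ D, x • a = a := by simp [fx]

theorem mem_fe : a ∈ fe Ω x ↔ x • a = a := by simp [fe]

theorem le_HH_iff : D ≤ HH G T ↔ T ⊆ fx Ω D :=
  ⟨fun h _ ha => mem_fx.2 fun _ hx => h hx _ ha, fun h _ hx _ ha => mem_fx.1 (h ha) _ hx⟩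

theorem mem_HH_iff : x ∈ HH G T ↔ T ⊆ fe Ω x :=
  ⟨fun h _ ha => mem_fe.2 (h _ ha), fun h _ ha => mem_fe.1 (h ha)⟩

theorem mem_HH_fe : x ∈ HH G (fe Ω x) := fun _ h => mem_fe.1 h

theorem fx_zpowers : fx Ω (zpowers x) = fe Ω x := by
  ext a
  rw [mem_fx, mem_fe]
  exact ⟨fun h => h x (mem_zpowers x), fun h y hy => zpowers_le.2 (mem_stabilizer_iff.2 h) hy⟩

theorem SS_of_norm (hg : ∀ x ∈ D, g⁻¹ * x * g ∈ D) : g ∈ SS G (fx Ω D) :=
  mem_SS_of fun a ha => mem_fx.2 fun x hx => by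
    have := mem_fx.1 ha _ (hg x hx)
    rwa [mul_smul, mul_smul, inv_smul_eq_iff] at this

theorem SS_of_normalizer (hg : g ∈ normalizer (D : Set G)) : g ∈ SS G (fx Ω D) :=
  SS_of_norm fun x hx => by simpa using (mem_normalizer_iff.1 (inv_mem hg) x).1 hx

theorem SS_of_comm (h : Commute g x) : g ∈ SS G (fe Ω x) :=
  mem_SS_of fun a ha => mem_fe.2 (by rw [← mul_smul, ← h.eq, mul_smul, mem_fe.1 ha])

theorem mem_fe_conj : g • a ∈ fe Ω (g * x * g⁻¹) ↔ a ∈ fe Ω x := by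
  rw [mem_fe, mem_fe, mul_smul, mul_smul, inv_smul_smul, smul_left_cancel_iff]

theorem card_fe_conj (g x : G) : (fe Ω (g * x * g⁻¹)).card = (fe Ω x).card := by
  refine (Finset.card_bijective (g • ·) (MulAction.bijective g) fun a => mem_fe_conj.symm).symm

omit [Fintype Ω] in
/-- An invariant set as a sub-action. -/
def sma (W : Subgroup G) (Φ : Finset Ω) (h : W ≤ SS G Φ) : SubMulAction W Ω :=
  ⟨Φ, fun w _ ha => (h w.2 _).2 ha⟩

theorem card_modEq [DecidableEq Ω] {p : ℕ} [Fact p.Prime] {Q : Subgroup G} (hQ : IsPGroup p Q) {A : Finset Ω}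
    (hA : Q ≤ SS G A) : A.card ≡ (A ∩ fx Ω Q).card [MOD p] := by
  have h := hQ.card_modEq_card_fixedPoints (sma Q A hA)
  have e1 : Nat.card (sma Q A hA) = A.card := by
    rw [← Nat.card_eq_finsetCard]
    rfl
  have e2 : Nat.card (fixedPoints Q (sma Q A hA)) = (A ∩ fx Ω Q).card := by
    rw [← Nat.card_eq_finsetCard]
    exact Nat.card_congr ⟨fun z => ⟨z.1.1, Finset.mem_inter.2 ⟨z.1.2, mem_fx.2 fun x hx =>
      congrArg Subtype.val (z.2 ⟨x, hx⟩)⟩⟩, fun z => ⟨⟨z.1, (Finset.mem_inter.1 z.2).1⟩, fun x =>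
      Subtype.ext (mem_fx.1 (Finset.mem_inter.1 z.2).2 x x.2)⟩, fun _ => rfl, fun _ => rfl⟩
  rwa [e1, e2] at h

omit [Fintype Ω] in
theorem pg_zpowers {p k : ℕ} (hx : x ^ p ^ k = 1) : IsPGroup p (zpowers x) := by
  rintro ⟨_, j, rfl⟩
  exact ⟨k, Subtype.ext (by
    change (x ^ j) ^ p ^ k = 1
    rw [← zpow_natCast, ← zpow_mul, mul_comm, zpow_mul, zpow_natCast, hx, one_zpow])⟩

theorem card_modEq_fe [DecidableEq Ω] {p k : ℕ} [Fact p.Prime] (hx : x ^ p ^ k = 1) {A : Finset Ω} (hA : x ∈ SS G A) :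
    A.card ≡ (A ∩ fe Ω x).card [MOD p] := by
  rw [← fx_zpowers]
  exact card_modEq (pg_zpowers hx) (zpowers_le.2 hA)

theorem exists_fix {p : ℕ} [Fact p.Prime] {Q : Subgroup G} (hQ : IsPGroup p Q) {A : Finset Ω}
    (hA : Q ≤ SS G A) (h : ¬ p ∣ A.card) : ∃ a ∈ A, ∀ x ∈ Q, x • a = a := by
  classical
  by_contra hn
  push Not at hn
  have e : A ∩ fx Ω Q = ∅ := Finset.eq_empty_of_forall_notMem fun a ha => by
    obtain ⟨x, hx, h⟩ := hn a (Finset.mem_inter.1 ha).1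
    exact h (mem_fx.1 (Finset.mem_inter.1 ha).2 x hx)
  have := card_modEq hQ hA
  rw [e, Finset.card_empty] at this
  exact h (Nat.modEq_zero_iff_dvd.1 this)

theorem exists_fix_elt {p k : ℕ} [Fact p.Prime] (hx : x ^ p ^ k = 1) {A : Finset Ω}
    (hA : x ∈ SS G A) (h : ¬ p ∣ A.card) : ∃ a ∈ A, x • a = a := by
  obtain ⟨a, ha, h⟩ := exists_fix (pg_zpowers hx) (zpowers_le.2 hA) h
  exact ⟨a, ha, h x (mem_zpowers x)⟩

omit [Fintype Ω] in
theorem SS_sdiff [DecidableEq Ω] (h1 : x ∈ SS G T) (h2 : x ∈ SS G U) : x ∈ SS G (T \ U) := fun a => by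
  rw [Finset.mem_sdiff, Finset.mem_sdiff, h1, h2]

theorem SS_univ : x ∈ SS G (Finset.univ : Finset Ω) := fun a => by simp

/-- Four-fold transitivity of `W` on `Φ`. -/
def Tr4 (W : Subgroup G) (Φ : Finset Ω) : Prop :=
  ∀ ⦃a b c d a' b' c' d' : Ω⦄, D4 a b c d → D4 a' b' c' d' → a ∈ Φ → b ∈ Φ → c ∈ Φ → d ∈ Φ →
    a' ∈ Φ → b' ∈ Φ → c' ∈ Φ → d' ∈ Φ → ∃ g ∈ W, g • a = a' ∧ g • b = b' ∧ g • c = c' ∧ g • d = d'

omit [Fintype Ω] in
theorem multi4 {W : Subgroup G} {Φ : Finset Ω} (hW : W ≤ SS G Φ) (tr : Tr4 W Φ) :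
    IsMultiplyPretransitive (toPermHom W (sma W Φ hW)).range (sma W Φ hW) 4 := by
  refine H26.multi_iff_fun.2 fun x y hx hy => ?_
  have i : ∀ {z : Fin 4 → sma W Φ hW}, Function.Injective z → D4 (z 0).1 (z 1).1 (z 2).1 (z 3).1 := fun hz =>
    have j : ∀ {s t : Fin 4}, s ≠ t → _ := fun h e => h (hz (Subtype.ext e))
    ⟨j (by decide), j (by decide), j (by decide), j (by decide), j (by decide), j (by decide)⟩
  obtain ⟨g, hg, h0, h1, h2, h3⟩ := tr (i hx) (i hy) (x 0).2 (x 1).2 (x 2).2 (x 3).2 (y 0).2 (y 1).2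
    (y 2).2 (y 3).2
  refine ⟨⟨_, ⟨g, hg⟩, rfl⟩, fun i => Subtype.ext ?_⟩
  fin_cases i <;> assumption

theorem hall [Finite G] {W : Subgroup G} {Φ : Finset Ω} (hW : W ≤ SS G Φ) (tr : Tr4 W Φ)
    (hT : T ⊆ Φ) (h4 : T.card = 4) (hodd : ∀ w ∈ W, w ∈ HH G T → ∃ k, Odd k ∧ w ^ k ∈ HH G Φ) :
    ((Φ.card = 4 ∨ Φ.card = 5 ∨ Φ.card = 6 ∨ Φ.card = 11) ∧ ∀ w ∈ W, w ∈ HH G T → w ∈ HH G Φ) ∨
      (Φ.card = 7 ∧ ∃ w ∈ W, w ∈ HH G T ∧ w ∉ HH G Φ) := by
  classical
  obtain ⟨a, b, c, d, h, rfl⟩ := exists_D4 h4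
  let X := sma W Φ hW
  letI : Fintype X := Fintype.ofFinite X
  have cX : Fintype.card X = Φ.card := by
    rw [← Nat.card_eq_fintype_card, ← Nat.card_eq_finsetCard]
    rfl
  let ρ := toPermHom W X
  have m4 := multi4 hW tr
  let e : Fin 4 ↪ X := ⟨![⟨a, hT (by simp)⟩, ⟨b, hT (by simp)⟩, ⟨c, hT (by simp)⟩, ⟨d, hT (by simp)⟩],
    H26.inj4 (fun e => h.ab (congrArg Subtype.val e)) (fun e => h.ac (congrArg Subtype.val e))
      (fun e => h.ad (congrArg Subtype.val e)) (fun e => h.bc (congrArg Subtype.val e))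
      (fun e => h.bd (congrArg Subtype.val e)) (fun e => h.cd (congrArg Subtype.val e))⟩
  have ms : ∀ w : W, (⟨ρ w, w, rfl⟩ : ρ.range) ∈ stabilizer ρ.range e ↔ w.1 ∈ HH G {a, b, c, d} := fun w => by
    rw [mem_HH4, mem_stabilizer_iff, DFunLike.ext_iff, Fin.forall_fin_succ, Fin.forall_fin_succ,
      Fin.forall_fin_two]
    simp only [Subtype.ext_iff]
    rfl
  have m1 : ∀ w : W, ρ w = 1 ↔ w.1 ∈ HH G Φ := fun w =>
    ⟨fun h y hy => congrArg Subtype.val (DFunLike.congr_fun h (⟨y, hy⟩ : X)),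
      fun h => Equiv.ext fun y => Subtype.ext (h y.1 y.2)⟩
  have ho : Odd (Nat.card (stabilizer ρ.range e)) := by
    refine Nat.not_even_iff_odd.1 fun he => ?_
    haveI : Fact (Nat.Prime 2) := ⟨Nat.prime_two⟩
    obtain ⟨⟨⟨_, w, rfl⟩, hw⟩, o⟩ := exists_prime_orderOf_dvd_card' 2 he.two_dvd
    obtain ⟨k, hk, h1⟩ := hodd w w.2 ((ms w).1 hw)
    have h2 : 2 ∣ k := by
      rw [← o, orderOf_dvd_iff_pow_eq_one]
      exact Subtype.ext (Subtype.ext ((map_pow ρ w k).symm.trans ((m1 (w ^ k)).2 h1)))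
    exact hk.not_two_dvd_nat h2
  have hc := (stabilizer ρ.range e).card_mul_index
  rw [@index_stabilizer_of_transitive _ _ _ _ _ ⟨fun x y => m4.exists_smul_eq x y⟩, Nat.card_eq_fintype_card (α := Fin 4 ↪ X),
    Fintype.card_embedding_eq, Fintype.card_fin] at hc
  have sharp : Nat.card (stabilizer ρ.range e) = 1 → ∀ w ∈ W, w ∈ HH G {a, b, c, d} → w ∈ HH G Φ :=
    fun h1 w hw h2 => (m1 ⟨w, hw⟩).1 (congrArg Subtype.val
      (mem_bot.1 ((card_eq_one.1 h1).le ((ms ⟨w, hw⟩).2 h2))))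
  have cA : ∀ n, Fintype.card X = n + 2 → ρ.range = alternatingGroup X →
      2 * Nat.card ρ.range = (n + 2).factorial := fun n hn hA => by
    haveI : Nontrivial X := Fintype.one_lt_card_iff_nontrivial.1 (by omega)
    rw [hA, Nat.card_eq_fintype_card, two_mul_card_alternatingGroup, Fintype.card_perm, hn]
  have c7 : (∀ w ∈ W, w ∈ HH G {a, b, c, d} → w ∈ HH G Φ) → Nat.card (stabilizer ρ.range e) = 1 :=
    fun hn => card_eq_one.2 (eq_bot_iff.2 (by
      rintro ⟨_, w, rfl⟩ hw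
      exact Subtype.ext ((m1 w).2 (hn w w.2 ((ms w).1 hw)))))
  have cS : ρ.range = ⊤ → Nat.card ρ.range = (Fintype.card X).factorial := fun k1 => by
    rw [k1, card_top, Nat.card_eq_fintype_card, Fintype.card_perm]
  have key := Cfsg.Agent.S4221.result ρ.range m4 e ho
  generalize Nat.card (stabilizer ρ.range e) = s at hc sharp c7
  rcases key with ⟨k, k1⟩ | ⟨k | k, k1⟩ | ⟨k, k1⟩
  · have k2 := cS k1
    refine Or.inl ⟨by omega, sharp ?_⟩
    rcases k with k | k <;> rw [k2, k] at hc <;> norm_num [Nat.descFactorial, Nat.factorial] at hc <;> omega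
  · have := cA 4 k k1
    rw [k, ← show 360 = Nat.descFactorial 6 4 from rfl] at hc
    rw [← show 720 = Nat.factorial (4 + 2) from rfl] at this
    exact Or.inl ⟨by omega, sharp (by omega)⟩
  · have := cA 5 k k1
    rw [k, ← show 840 = Nat.descFactorial 7 4 from rfl] at hc
    rw [← show 5040 = Nat.factorial (5 + 2) from rfl] at this
    refine Or.inr ⟨by omega, ?_⟩
    by_contra hn
    push Not at hn
    have := c7 hn
    omega
  · rw [k, k1, ← show 7920 = Nat.descFactorial 11 4 from rfl] at hc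
    exact Or.inl ⟨by omega, sharp (by omega)⟩

end H41.Q4
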