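import Mathlib
import Cfsg.Agent.Base
import Cfsg.Agent.Lib.Quad4.Basic
import Cfsg.Agent.Lib.Core.Frobenius
import Cfsg.Agent.Lib.LocStruct.SylowIn
import Cfsg.Agent.Lib.FGS.NilpCover
import Cfsg.Agent.Lib.FGS.CyclicAux
import Cfsg.Agent.Lib.BG.S3b

/-! Four-fold transitive groups whose four-point stabilisers are Frobenius groups. -/

set_option autoImplicit false
set_option linter.style.haveILetI false
set_option linter.unusedSectionVars false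

namespace H41.Q4

open Subgroup MulAction H69
open scoped Pointwise

variable {G Ω : Type*} [Group G] [Finite G]

instance fact2 : Fact (Nat.Prime 2) := ⟨Nat.prime_two⟩
instance fact3 : Fact (Nat.Prime 3) := ⟨Nat.prime_three⟩

theorem ppart (x : G) (p j : ℕ) [hp : Fact p.Prime] :
    ∃ s i : ℕ, (x * (x ^ p ^ j) ^ s) ^ p ^ i = 1 := by
  obtain ⟨a, u, hu, e⟩ := Nat.exists_eq_pow_mul_and_not_dvd (orderOf_pos x).ne' p hp.out.ne_one
  have hc : u.Coprime (p ^ j) := ((Nat.Prime.coprime_iff_not_dvd hp.out).2 hu).symm.pow_right j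
  have u0 : 0 < u := Nat.pos_of_ne_zero fun h => hu (h ▸ dvd_zero p)
  obtain ⟨s, hs⟩ := (Nat.modEq_iff_dvd' (Nat.one_le_pow _ _ u0)).1 (Nat.ModEq.pow_totient hc).symm
  have h1 : u ^ (p ^ j).totient = 1 + p ^ j * s := by
    have := Nat.one_le_pow (p ^ j).totient _ u0
    omega
  refine ⟨s, a, ?_⟩
  rw [← pow_mul, ← pow_succ', add_comm, ← h1, ← pow_mul, ← orderOf_dvd_iff_pow_eq_one, e, mul_comm]
  exact Nat.mul_dvd_mul_right (dvd_pow_self u (Nat.totient_pos.2 (pow_pos hp.out.pos j)).ne') _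

theorem exists_cent {p k : ℕ} [Fact p.Prime] {x : G} (hx : x ^ p ^ k = 1) {L : Subgroup G}
    (hn : x ∈ 𝐍(L)) (h : p ∣ Nat.card L) : ∃ y ∈ L, orderOf y = p ∧ Commute x y := by
  obtain ⟨S, hS, h1⟩ := exists_isSylowIn_le (pg_zpowers hx) (le_sup_right : _ ≤ L ⊔ zpowers x)
  have h2 := hS.inf_normal le_sup_left (sup_le le_normalizer (zpowers_le.2 hn))
  have h3 := inf_centralizer_ne_bot h2.2 (pg_zpowers hx)
    (le_normalizer_inf (h1.trans le_normalizer) (zpowers_le.2 hn)) (h2.dvd_card_iff.1 h)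
  obtain ⟨y, hy, o⟩ := exists_orderOf_eq_prime (h2.2.to_le inf_le_left) h3
  exact ⟨y, hy.1.2, o, hy.2 x (mem_zpowers x)⟩

theorem inv_sylow {p k : ℕ} [Fact p.Prime] {x : G} (hx : x ^ p ^ k = 1) {L : Subgroup G}
    (hn : x ∈ 𝐍(L)) (h : ¬ p ∣ Nat.card L) (q : ℕ) [Fact q.Prime] : ∃ R, IsSylowIn q R L ∧ x ∈ 𝐍(R) := by
  let φ : zpowers x →* MulAut L := L.normalizerMonoidHom.comp (inclusion (zpowers_le.2 hn))
  letI : MulAction (zpowers x) (Sylow q L) := MulAction.compHom _ φ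
  obtain ⟨P, hP⟩ := (pg_zpowers hx).nonempty_fixed_point_of_prime_not_dvd_card (Sylow q L) fun h1 => by
    obtain ⟨P⟩ : Nonempty (Sylow q L) := inferInstance
    exact h (h1.trans (P.card_dvd_index.trans (index_dvd_card _)))
  refine ⟨_, isSylowIn_map_subtype P, mem_normalizer_of_cj_le fun z hz => ?_⟩
  obtain ⟨_, ⟨y, hy, rfl⟩, rfl⟩ := mem_cj'.1 hz
  have h1 : φ ⟨x, mem_zpowers x⟩ • P = P := hP ⟨x, mem_zpowers x⟩
  have h2 : φ ⟨x, mem_zpowers x⟩ • y ∈ (φ ⟨x, mem_zpowers x⟩ • P : Sylow q L) :=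
    smul_mem_pointwise_smul _ _ _ hy
  rw [h1] at h2
  exact ⟨_, h2, rfl⟩

theorem surj_of {N : Subgroup G} {y k : G} (hn : y ∈ 𝐍(N)) (h : ∀ x ∈ N, Commute x y → x = 1)
    (hk : k ∈ N) : ∃ x ∈ N, x * y * x⁻¹ * y⁻¹ = k :=
  H2.exists_commutator_eq_of_fpf hn (H2.inf_centralizer_singleton_eq_bot_iff.2 h) hk

theorem inv_of {N : Subgroup G} {y k : G} (hn : y ∈ 𝐍(N)) (h : ∀ x ∈ N, Commute x y → x = 1)
    (h2 : y * y = 1) (hk : k ∈ N) : y * k * y⁻¹ = k⁻¹ := by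
  obtain ⟨x, -, rfl⟩ := surj_of hn h hk
  rw [inv_eq_of_mul_eq_one_right h2]
  calc y * (x * y * x⁻¹ * y) * y = y * x * y * x⁻¹ * (y * y) := by group
    _ = (x * y⁻¹ * x⁻¹ * y⁻¹)⁻¹ := by rw [h2]; group
    _ = _ := by rw [inv_eq_of_mul_eq_one_right h2]

theorem eq_one_of_pows {x : G} {a b : ℕ} (h : a.Coprime b) (ha : x ^ a = 1) (hb : x ^ b = 1) : x = 1 :=
  orderOf_eq_one_iff.1 (Nat.eq_one_of_dvd_coprimes h (orderOf_dvd_of_pow_eq_one ha)
    (orderOf_dvd_of_pow_eq_one hb))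

theorem orderOf_cj (g x : G) : orderOf (g * x * g⁻¹) = orderOf x := (MulAut.conj g).orderOf_eq x

variable [MulAction G Ω]

/-- The hypothesis: elements of order prime to `m` form the Frobenius kernels. -/
structure Q4 (G Ω : Type*) [Group G] [MulAction G Ω] (m : ℕ) : Prop where
  tr : ∀ ⦃a b c d a' b' c' d' : Ω⦄, D4 a b c d → D4 a' b' c' d' →
    ∃ g : G, g • a = a' ∧ g • b = b' ∧ g • c = c' ∧ g • d = d'
  faith : ∀ g : G, (∀ a : Ω, g • a = a) → g = 1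
  ker : ∀ T : Finset Ω, T.card = 4 →
    ∃ K : Subgroup G, (∀ x, x ∈ K ↔ x ∈ HH G T ∧ (orderOf x).Coprime m) ∧ Group.IsNilpotent K
  cent : ∀ T : Finset Ω, T.card = 4 → ∀ x ∈ HH G T, ∀ y ∈ HH G T, x ≠ 1 → (orderOf x).Coprime m →
    Commute x y → (orderOf y).Coprime m
  ne1 : ∀ T : Finset Ω, T.card = 4 → ∃ x ∈ HH G T, x ≠ 1 ∧ (orderOf x).Coprime m
  ne2 : ∀ T : Finset Ω, T.card = 4 → ∃ x ∈ HH G T, ¬ (orderOf x).Coprime m
  ex : ∃ a b c d : Ω, D4 a b c d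

/-- The Frobenius kernel. -/
def KK (G : Type*) [Group G] [MulAction G Ω] (m : ℕ) (T : Finset Ω) : Subgroup G :=
  closure {x | x ∈ HH G T ∧ (orderOf x).Coprime m}

variable {m : ℕ} {T U : Finset Ω} {g x y : G} {a b c d : Ω}

theorem KK_le : KK G m T ≤ HH G T := (closure_le _).2 fun _ h => h.1

theorem not_cop {p : ℕ} (hp : p.Prime) (hm : p ∣ m) (hx : p ∣ orderOf x) : ¬ (orderOf x).Coprime m :=
  fun h => hp.ne_one (Nat.eq_one_of_dvd_coprimes h hx hm)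

theorem cop_of {p k : ℕ} (hp : p.Prime) (hm : ¬ p ∣ m) (hx : x ^ p ^ k = 1) : (orderOf x).Coprime m :=
  (((Nat.Prime.coprime_iff_not_dvd hp).2 hm).pow_left k).coprime_dvd_left (orderOf_dvd_of_pow_eq_one hx)

namespace Q4

variable (h : Q4 G Ω m)
include h

theorem mem_KK (h4 : T.card = 4) : x ∈ KK G m T ↔ x ∈ HH G T ∧ (orderOf x).Coprime m := by
  obtain ⟨K, hK, -⟩ := h.ker T h4
  exact ⟨fun hx => (hK x).1 ((closure_le K).2 (fun y hy => (hK y).2 hy) hx), fun hx => subset_closure hx⟩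

theorem nil (h4 : T.card = 4) : Group.IsNilpotent (KK G m T) := by
  obtain ⟨K, hK, hn⟩ := h.ker T h4
  rwa [show KK G m T = K from Subgroup.ext fun x => (h.mem_KK h4).trans (hK x).symm]

theorem comm (h4 : T.card = 4) (hx : x ∈ KK G m T) (hy : y ∈ KK G m T)
    (hc : (orderOf x).Coprime (orderOf y)) : Commute x y :=
  H77.commute_of_isNilpotent_of_coprime (h.nil h4) hx hy hc

theorem norm_KK (h4 : T.card = 4) (hg : g ∈ SS G T) : g ∈ 𝐍(KK G m T) :=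
  mem_normalizer_of_cj_le fun _ hz => by
    obtain ⟨y, hy, rfl⟩ := mem_cj'.1 hz
    rw [h.mem_KK h4] at hy ⊢
    exact ⟨conj_HH hg hy.1, by rw [orderOf_cj]; exact hy.2⟩

theorem fpf (h4 : T.card = 4) (hy : y ∈ HH G T) (hy' : ¬ (orderOf y).Coprime m) (hx : x ∈ KK G m T)
    (hc : Commute x y) : x = 1 := by
  by_contra h1
  rw [h.mem_KK h4] at hx
  exact hy' (h.cent T h4 x hx.1 y hy h1 hx.2 hc)

theorem surj (h4 : T.card = 4) (hy : y ∈ HH G T) (hy' : ¬ (orderOf y).Coprime m) {N : Subgroup G}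
    (hN : N ≤ KK G m T) (hn : y ∈ 𝐍(N)) (hx : x ∈ N) : ∃ u ∈ N, u * y * u⁻¹ * y⁻¹ = x :=
  surj_of hn (fun _ hu hc => h.fpf h4 hy hy' (hN hu) hc) hx

theorem pow (h4 : T.card = 4) (hy : y ∈ HH G T) (hy' : ¬ (orderOf y).Coprime m) (hx : x ∈ zpowers y)
    (h1 : x ≠ 1) : ¬ (orderOf x).Coprime m := fun hc => by
  obtain ⟨j, rfl⟩ := hx
  exact h1 (h.fpf h4 hy hy' ((h.mem_KK h4).2 ⟨zpow_mem hy j, hc⟩) (Commute.zpow_self y j))

theorem exists_prime (h4 : T.card = 4) (hy : y ∈ HH G T) (hy' : ¬ (orderOf y).Coprime m) :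
    ∃ c ∈ zpowers y, ∃ r : ℕ, r.Prime ∧ r ∣ m ∧ orderOf c = r := by
  obtain ⟨r, hr, h1, h2⟩ := Nat.Prime.not_coprime_iff_dvd.1 hy'
  exact ⟨y ^ (orderOf y / r), npow_mem_zpowers y _, r, hr, h2, orderOf_pow_orderOf_div (orderOf_pos y).ne' h1⟩

theorem KK_ne (h4 : T.card = 4) : KK G m T ≠ ⊥ := fun e => by
  obtain ⟨x, hx, h1, h2⟩ := h.ne1 T h4
  exact h1 (mem_bot.1 (e.le ((h.mem_KK h4).2 ⟨hx, h2⟩)))

theorem zg (h4 : T.card = 4) {R : Subgroup G} (hR : R ≤ HH G T) (ho : Odd (Nat.card R))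
    (hK : ∀ x ∈ R, x ∈ KK G m T → x = 1) : IsZGroup R :=
  H45.BG.odd_regular_Zgroup ho (h.KK_ne h4) (fun _ hx => h.norm_KK h4 (HH_le_SS (hR hx)))
    fun x hx h1 => H2.inf_centralizer_singleton_eq_bot_iff.2 fun _ hk hc =>
      h.fpf h4 (hR hx) (fun h2 => h1 (hK x hx ((h.mem_KK h4).2 ⟨hR hx, h2⟩))) hk hc

theorem cyc (h4 : T.card = 4) {r : ℕ} [hr : Fact r.Prime] (h2 : r ≠ 2) (hm : r ∣ m) {R : Subgroup G}
    (hR : R ≤ HH G T) (hp : IsPGroup r R) : IsCyclic R := by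
  obtain ⟨k, hk⟩ := hp.exists_card_eq
  haveI := h.zg h4 hR (hk ▸ (hr.out.odd_of_ne_two h2).pow) fun x hx hK => by
    obtain ⟨j, hj⟩ := isPGroup_iff_mem.1 hp x hx
    exact eq_one_of_pows ((((h.mem_KK h4).1 hK).2.coprime_dvd_right hm).pow_right j) (pow_orderOf_eq_one x) hj
  exact isCyclic_of_surjective _ (topEquiv (G := R)).surjective
    (hH := (hp.to_subgroup ⊤).isCyclic_of_isZGroup)

theorem conj_r (h4 : T.card = 4) {r : ℕ} [hr : Fact r.Prime] (h2 : r ≠ 2) (hm : r ∣ m) (hx : x ∈ HH G T)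
    (hy : y ∈ HH G T) (ox : x ^ r = 1) (oy : orderOf y = r) : ∃ g ∈ HH G T, g * x * g⁻¹ ∈ zpowers y := by
  have px : IsPGroup r (zpowers x) := pg_zpowers (k := 1) (by rwa [pow_one])
  have py : IsPGroup r (zpowers y) := pg_zpowers (k := 1) (by rw [pow_one, ← oy, pow_orderOf_eq_one])
  obtain ⟨R, hR, h1⟩ := exists_isSylowIn_le py (zpowers_le.2 hy)
  obtain ⟨g, hg, h3⟩ := hR.exists_cj_le px (zpowers_le.2 hx)
  refine ⟨g, hg, H80.mem_zpowers_of_orderOf_dvd (h.cyc h4 h2 hm hR.1 hR.2) (h3 (cj_mem g (mem_zpowers x)))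
    (h1 (mem_zpowers y)) ?_⟩
  rw [orderOf_cj, oy]
  exact orderOf_dvd_of_pow_eq_one ox

theorem no_four (h4 : T.card = 4) (hm : 2 ∣ m) (hx : x ∈ HH G T) (hy : y ∈ HH G T) (x2 : x * x = 1)
    (y2 : y * y = 1) (x1 : x ≠ 1) (y1 : y ≠ 1) (hc : Commute x y) : x = y := by
  by_contra hne
  obtain ⟨k, hk, k1, k2⟩ := h.ne1 T h4
  have hk' := (h.mem_KK h4).2 ⟨hk, k2⟩
  have inv : ∀ z ∈ HH G T, z * z = 1 → z ≠ 1 → z * k * z⁻¹ = k⁻¹ := fun z hz z2 z1 =>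
    inv_of (h.norm_KK h4 (HH_le_SS hz)) (fun _ hu => h.fpf h4 hz (not_cop Nat.prime_two hm
      (orderOf_eq_prime (p := 2) (by rwa [sq]) z1).symm.dvd) hu) z2 hk'
  have h1 := inv (x * y) (mul_mem hx hy) (by rw [mul_assoc, ← mul_assoc y, ← hc.eq, mul_assoc, y2, mul_one, x2])
    (fun e => hne ((eq_inv_of_mul_eq_one_left e).trans (inv_eq_of_mul_eq_one_right y2)))
  have h2 : k = k⁻¹ := by
    rw [← h1]
    calc k = (x * k * x⁻¹)⁻¹ := by rw [inv x hx x2 x1, inv_inv]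
      _ = x * k⁻¹ * x⁻¹ := by group
      _ = _ := by rw [← inv y hy y2 y1]; group
  exact k1 (eq_one_of_pows (k2.coprime_dvd_right hm) (pow_orderOf_eq_one k)
    (by rw [sq]; exact mul_eq_one_iff_eq_inv.2 h2))

theorem not_comm (h4 : T.card = 4) : ∃ x ∈ HH G T, ∃ y ∈ HH G T, ¬ Commute x y := by
  obtain ⟨k, hk, k1, k2⟩ := h.ne1 T h4
  obtain ⟨y, hy, y1⟩ := h.ne2 T h4
  exact ⟨k, hk, y, hy, fun hc => y1 (h.cent T h4 k hk y hy k1 k2 hc)⟩

variable [DecidableEq Ω]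

theorem trT (h4 : T.card = 4) (h4' : U.card = 4) : ∃ g : G, g • T = U := by
  obtain ⟨a, b, c, d, h1, rfl⟩ := exists_D4 h4
  obtain ⟨a', b', c', d', h2, rfl⟩ := exists_D4 h4'
  obtain ⟨g, rfl, rfl, rfl, rfl⟩ := h.tr h1 h2
  exact ⟨g, smul4 g⟩

theorem conj_KK (h4 : T.card = 4) (g : G) (hx : x ∈ KK G m T) : g * x * g⁻¹ ∈ KK G m (g • T) := by
  rw [h.mem_KK h4] at hx
  rw [h.mem_KK (by rwa [Finset.card_smul_finset]), orderOf_cj]
  exact ⟨conj_HH_smul g hx.1, hx.2⟩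

variable [Fintype Ω]

theorem tr4 : Tr4 (⊤ : Subgroup G) (Finset.univ : Finset Ω) := fun _ _ _ _ _ _ _ _ h1 h2 _ _ _ _ _ _ _ _ => by
  obtain ⟨g, hg⟩ := h.tr h1 h2
  exact ⟨g, mem_top g, hg⟩

theorem eq_one (hx : x ∈ HH G (Finset.univ : Finset Ω)) : x = 1 := h.faith x fun a => hx a (Finset.mem_univ a)

theorem card_HH_dvd (T : Finset Ω) : Nat.card (HH G T) ∣ (Finset.univ \ T).card.factorial := by
  have hS : HH G T ≤ SS G (Finset.univ \ T) := fun _ hw => SS_sdiff SS_univ (HH_le_SS hw)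
  have e1 : Nat.card (sma _ _ hS) = (Finset.univ \ T).card := by
    rw [← Nat.card_eq_finsetCard]
    rfl
  have := card_dvd_of_injective (toPermHom (HH G T) (sma _ _ hS)) ((injective_iff_map_eq_one _).2
    fun w hw => Subtype.ext (h.faith _ fun a => by
      by_cases ha : a ∈ T
      · exact w.2 a ha
      · exact congrArg Subtype.val
          (DFunLike.congr_fun hw (⟨a, Finset.mem_sdiff.2 ⟨Finset.mem_univ a, ha⟩⟩ : sma _ _ hS))))
  rwa [Nat.card_perm, e1] at this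

theorem exists_inv (h4 : T.card = 4) : ∃ t ∈ HH G T, t * t = 1 ∧ t ≠ 1 := by
  by_contra hn
  push Not at hn
  have ho : ∀ w ∈ HH G T, Odd (orderOf w) := fun w hw => Nat.not_even_iff_odd.1 fun he => by
    have := orderOf_pow_orderOf_div (orderOf_pos w).ne' he.two_dvd
    rw [hn _ (pow_mem hw _) (by rw [← sq, ← orderOf_dvd_iff_pow_eq_one, this]), orderOf_one] at this
    omega
  obtain ⟨x, hx, y, hy, hc⟩ := h.not_comm h4
  rcases hall (fun _ _ => SS_univ) h.tr4 (Finset.subset_univ T) h4 fun w _ hw =>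
    ⟨_, ho w hw, by rw [pow_orderOf_eq_one]; exact one_mem _⟩ with ⟨-, k⟩ | ⟨k, -⟩
  · exact hc (by rw [h.eq_one (k x trivial hx)]; exact Commute.one_left y)
  · have k3 : (Finset.univ \ T).card = 3 := by rw [Finset.card_sdiff_of_subset (Finset.subset_univ T)]; omega
    have h1 : Nat.card (HH G T) ∣ 6 := by
      have := h.card_HH_dvd T
      rwa [k3] at this
    have h2 : ¬ 2 ∣ Nat.card (HH G T) := fun h2 => by
      obtain ⟨t, ht⟩ := exists_prime_orderOf_dvd_card' 2 h2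
      have := ho t t.2
      rw [orderOf_coe, ht] at this
      exact absurd this (by decide)
    have h3 : Nat.card (HH G T) ∣ 3 :=
      ((Nat.Prime.coprime_iff_not_dvd Nat.prime_two).2 h2).symm.dvd_of_dvd_mul_left h1
    haveI := isCyclic_of_card_dvd_prime h3
    exact hc (congrArg Subtype.val (mul_comm' (⟨x, hx⟩ : HH G T) ⟨y, hy⟩))

end Q4

end H41.Q4
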