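import Mathlib
import Cfsg.Agent.Base
import Cfsg.Agent.Lib.Quad4.Frob
import Cfsg.Agent.S4220
import Cfsg.Agent.S0711

/-! The case of the alternating and symmetric groups. -/

set_option autoImplicit false
set_option linter.style.haveILetI false
set_option linter.unusedSectionVars false

namespace H41.Q4

open Subgroup MulAction H69 Equiv

variable {G Ω : Type*} [Group G] [Finite G] [MulAction G Ω] [Fintype Ω] [DecidableEq Ω]

/-- The group contains the alternating group. -/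
def Big (G Ω : Type*) [Group G] [MulAction G Ω] [Fintype Ω] [DecidableEq Ω] : Prop :=
  alternatingGroup Ω ≤ (toPermHom G Ω).range

variable {m : ℕ} {T : Finset Ω} {x : G}

namespace Q4

variable (h : Q4 G Ω m)
include h

theorem inj : Function.Injective (toPermHom G Ω) :=
  (injective_iff_map_eq_one _).2 fun g hg => h.faith g fun a => DFunLike.congr_fun hg a

theorem multi : IsMultiplyPretransitive (toPermHom G Ω).range Ω 4 := by
  refine H26.multi_iff_fun.2 fun x y hx hy => ?_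
  have i : ∀ {z : Fin 4 → Ω}, Function.Injective z → D4 (z 0) (z 1) (z 2) (z 3) := fun hz =>
    ⟨hz.ne (by decide), hz.ne (by decide), hz.ne (by decide), hz.ne (by decide), hz.ne (by decide),
      hz.ne (by decide)⟩
  obtain ⟨g, h0, h1, h2, h3⟩ := h.tr (i hx) (i hy)
  refine ⟨⟨_, g, rfl⟩, fun i => ?_⟩
  fin_cases i <;> assumption

theorem exT : ∃ T : Finset Ω, T.card = 4 := by
  obtain ⟨a, b, c, d, h1⟩ := h.ex
  exact ⟨_, h1.card⟩

theorem four_le : 4 ≤ Fintype.card Ω := by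
  obtain ⟨T, hT⟩ := h.exT
  exact hT ▸ T.card_le_univ

theorem big_of_supp (h1 : x ≠ 1) (h2 : Fintype.card Ω < (fe Ω x).card + 6) : Big G Ω := by
  refine (Cfsg.Agent.S0711.result (toPermHom G Ω).range (by norm_num) h.four_le h.multi _ ⟨x, rfl⟩
    (fun e => h1 (h.inj (e.trans (map_one _).symm))) ?_).2
  have : (toPermHom G Ω x).support = Finset.univ \ fe Ω x := by
    ext a
    simp [mem_fe]
  rw [this, Finset.card_sdiff_of_subset (Finset.subset_univ _), Finset.card_univ]
  omega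

theorem big_of_card {k p : ℕ} (hp : p.Prime) (hn : Fintype.card Ω = k * p + 3) (h1 : 1 ≤ k) (h2 : k < p)
    (h3 : k < 3) : Big G Ω :=
  Cfsg.Agent.S4220.result _ hp hn h1 h2 h3 (by omega) h.multi

theorem seven_le : 7 ≤ Fintype.card Ω := by
  by_contra hn
  obtain ⟨T, h4⟩ := h.exT
  obtain ⟨x, hx, y, hy, hc⟩ := h.not_comm h4
  have h1 := h.card_HH_dvd T
  rw [Finset.card_sdiff_of_subset (Finset.subset_univ T), Finset.card_univ] at h1
  haveI := isCyclic_of_card_dvd_prime (p := 2)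
    (h1.trans (Nat.factorial_dvd_factorial (show _ ≤ 2 by omega)))
  exact hc (congrArg Subtype.val (mul_comm' (⟨x, hx⟩ : HH G T) ⟨y, hy⟩))

theorem noA (h4 : T.card = 4) {s t u : G} (hs : s ∈ HH G T) (ht : t ∈ HH G T) (hu : u ∈ HH G T)
    (s2 : s * s = 1) (t2 : t * t = 1) (u2 : u * u = 1) (s1 : s ≠ 1) (t1 : t ≠ 1) (hst : s ≠ t)
    (hc : Commute s t) (h3 : (s * u) ^ 3 = 1) : s * u = 1 := by
  have hm : ¬ 2 ∣ m := fun hm => hst (h.no_four h4 hm hs ht s2 t2 s1 t1 hc)
  have k : ∀ z ∈ HH G T, z * z = 1 → z ∈ KK G m T := fun z hz z2 =>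
    (h.mem_KK h4).2 ⟨hz, cop_of (k := 1) Nat.prime_two hm (by rwa [pow_one, sq])⟩
  have h1 := h.comm h4 (k s hs s2) (mul_mem (k s hs s2) (k u hu u2))
    ((Nat.Coprime.coprime_dvd_left (orderOf_dvd_of_pow_eq_one (by rwa [sq] : s ^ 2 = 1))
      (by norm_num : Nat.Coprime 2 3)).coprime_dvd_right (orderOf_dvd_of_pow_eq_one h3))
  refine eq_one_of_pows (by norm_num : Nat.Coprime 2 3) ?_ h3
  rw [sq, ← mul_assoc, ← h1.eq, ← mul_assoc, s2, one_mul, u2]

theorem noB (h4 : T.card = 4) {k : ℕ} (hk : k + 4 ≤ Fintype.card Ω) (s t u : Perm (Fin k))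
    (hG : (toPermHom G Ω).range = ⊤ ∨ (Big G Ω ∧ Perm.sign s = 1 ∧ Perm.sign t = 1 ∧ Perm.sign u = 1))
    (hr : s * s = 1 ∧ t * t = 1 ∧ u * u = 1 ∧ s ≠ 1 ∧ t ≠ 1 ∧ s ≠ t ∧ s * t = t * s ∧
      (s * u) ^ 3 = 1 ∧ s * u ≠ 1) : False := by
  obtain ⟨e⟩ : Nonempty (Fin k ↪ ↥(Finset.univ \ T)) := Function.Embedding.nonempty_of_card_le (by
    rw [Fintype.card_coe, Finset.card_sdiff_of_subset (Finset.subset_univ T), Finset.card_univ,
      Fintype.card_fin]
    omega)
  let ι := e.trans (Function.Embedding.subtype _)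
  let φ := Perm.viaEmbeddingHom ι
  have hφ := Perm.viaEmbeddingHom_injective ι
  have lift : ∀ σ, (toPermHom G Ω).range = ⊤ ∨ (Big G Ω ∧ Perm.sign σ = 1) →
      ∃ g ∈ HH G T, toPermHom G Ω g = φ σ := fun σ hσ => by
    obtain ⟨g, hg⟩ : φ σ ∈ (toPermHom G Ω).range := by
      rcases hσ with hσ | ⟨h1, h2⟩
      · exact hσ.ge trivial
      · refine h1 (Perm.mem_alternatingGroup.2 ?_)
        rw [← h2]
        exact @Perm.sign_extendDomain _ _ _ _ _ _ σ _ (fun _ => Classical.propDecidable _) (ofInjective ι.1 ι.2)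
    refine ⟨g, fun a ha => (DFunLike.congr_fun hg a).trans (Perm.viaEmbedding_apply_of_notMem _ _ _ ?_), hg⟩
    rintro ⟨i, rfl⟩
    exact (Finset.mem_sdiff.1 (e i).2).2 ha
  obtain ⟨s', hs, es⟩ := lift s (hG.imp_right fun k => ⟨k.1, k.2.1⟩)
  obtain ⟨t', ht, et⟩ := lift t (hG.imp_right fun k => ⟨k.1, k.2.2.1⟩)
  obtain ⟨u', hu, eu⟩ := lift u (hG.imp_right fun k => ⟨k.1, k.2.2.2⟩)
  obtain ⟨r1, r2, r3, r4, r5, r6, r7, r8, r9⟩ := hr
  refine r9 (hφ ?_)
  rw [map_mul, map_one, ← es, ← eu, ← map_mul, h.noA h4 hs ht hu (h.inj ?_) (h.inj ?_) (h.inj ?_)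
    (fun e => r4 (hφ ?_)) (fun e => r5 (hφ ?_)) (fun e => r6 (hφ ?_)) (h.inj ?_) (h.inj ?_), map_one]
  · rw [map_mul, es, ← map_mul, r1, map_one, map_one]
  · rw [map_mul, et, ← map_mul, r2, map_one, map_one]
  · rw [map_mul, eu, ← map_mul, r3, map_one, map_one]
  · rw [map_mul, map_mul, es, et, ← map_mul, r7, map_mul]
  · rw [map_pow, map_mul, es, eu, ← map_mul, ← map_pow, r8, map_one, map_one]
  · rw [← es, e, map_one, map_one]
  · rw [← et, e, map_one, map_one]
  · rw [← es, e, et]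

theorem big_concl (hB : Big G Ω) :
    Nonempty (G ≃* Perm (Fin 7)) ∨ Nonempty (G ≃* alternatingGroup (Fin 8)) := by
  obtain ⟨T, h4⟩ := h.exT
  have h7 := h.seven_le
  have h9 : Fintype.card Ω < 9 := by
    by_contra h9
    exact h.noB h4 (k := 5) (by omega) (swap 0 1 * swap 2 3) (swap 0 2 * swap 1 3) (swap 0 1 * swap 2 4)
      (Or.inr ⟨hB, by decide⟩) (by decide)
  haveI : Nontrivial Ω := Fintype.one_lt_card_iff_nontrivial.1 (by omega)
  have hi := index_dvd_of_le hB
  rw [alternatingGroup.index_eq_two] at hi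
  have e0 := MonoidHom.ofInjective h.inj
  rcases (Nat.dvd_prime Nat.prime_two).1 hi with k | k
  · rw [index_eq_one] at k
    have h8 : Fintype.card Ω = 7 := by
      by_contra h8
      exact h.noB h4 (k := 4) (by omega) (swap 0 1) (swap 2 3) (swap 1 2) (Or.inl k) (by decide)
    exact Or.inl ⟨(e0.trans ((MulEquiv.subgroupCongr k).trans topEquiv)).trans
      (Fintype.equivFinOfCardEq h8).permCongrHom⟩
  · have k := Perm.eq_alternatingGroup_of_index_eq_two k
    have h8 : Fintype.card Ω = 8 := by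
      by_contra h8
      obtain ⟨t, ht, t2, t1⟩ := h.exists_inv h4
      have h1 : (toPermHom G Ω t).support ⊆ Finset.univ \ T := fun a ha =>
        Finset.mem_sdiff.2 ⟨Finset.mem_univ a, fun k => Perm.mem_support.1 ha (ht a k)⟩
      have h2 := Finset.card_le_card h1
      rw [Finset.card_sdiff_of_subset (Finset.subset_univ T), Finset.card_univ] at h2
      have o : orderOf (toPermHom G Ω t) = 2 := by
        rw [orderOf_injective _ h.inj, orderOf_eq_prime (p := 2) (by rwa [sq]) t1]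
      have h3 := Perm.mem_alternatingGroup.1 (k.le ⟨t, rfl⟩)
      generalize toPermHom G Ω t = σ at h2 o h3
      rcases (by omega : σ.support.card ≤ 1 ∨ σ.support.card = 2 ∨ σ.support.card = 3) with k | k | k
      · rw [Perm.card_support_le_one.1 k, orderOf_one] at o
        omega
      · rw [(Perm.card_support_eq_two.1 k).sign_eq] at h3
        exact absurd h3 (by decide)
      · rw [(card_support_eq_three_iff.1 k).orderOf] at o
        omega
    exact Or.inr ⟨(e0.trans (MulEquiv.subgroupCongr k)).trans (Fintype.equivFinOfCardEq h8).altCongrHom⟩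

end Q4

end H41.Q4
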