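import Mathlib
import Cfsg.Agent.Base
import Cfsg.Agent.Lib.Quad4.Alt

/-! Blocks: the fixed points of the Sylow subgroups of the Frobenius kernels. -/

set_option autoImplicit false
set_option linter.style.haveILetI false
set_option linter.unusedSectionVars false

namespace H41.Q4

open Subgroup MulAction H69 Finset
open scoped Pointwise

variable {G Ω : Type*} [Group G] [Finite G] [MulAction G Ω] [Fintype Ω] [DecidableEq Ω]

theorem dvd_of_fibers {α β : Type*} [DecidableEq β] (s : Finset α) (g : α → β) {k : ℕ}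
    (h : ∀ a ∈ s, (s.filter fun b => g b = g a).card = k) : k ∣ s.card := by
  rw [card_eq_sum_card_image g s]
  refine dvd_sum fun b hb => ?_
  obtain ⟨a, ha, rfl⟩ := mem_image.1 hb
  rw [h a ha]

theorem exists_step {D : Subgroup G} {p : ℕ} {t : G} (h1 : t ∉ D) {k : ℕ} (h2 : t ^ p ^ k ∈ D) :
    ∃ j, t ^ p ^ j ∉ D ∧ (t ^ p ^ j) ^ p ∈ D := by
  induction k with
  | zero => exact (h1 (by simpa using h2)).elim
  | succ k ih =>
    by_cases h : t ^ p ^ k ∈ D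
    · exact ih h
    · exact ⟨k, h, by rwa [← pow_mul, ← pow_succ]⟩

/-- The `p`-elements of a four-point stabiliser. -/
def PP (G : Type*) [Group G] [MulAction G Ω] (p : ℕ) (T : Finset Ω) : Subgroup G :=
  closure {x | x ∈ HH G T ∧ ∃ k : ℕ, x ^ p ^ k = 1}

/-- The block on four points. -/
noncomputable def FF (G : Type*) [Group G] [MulAction G Ω] (p : ℕ) (T : Finset Ω) : Finset Ω :=
  fx Ω (PP G p T)

variable {m p : ℕ} {T U : Finset Ω} {g x y : G} {a b c d : Ω}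

theorem PP_le : PP G p T ≤ HH G T := (closure_le _).2 fun _ h => h.1

theorem sub_FF : T ⊆ FF G p T := le_HH_iff.1 PP_le

theorem PP_le_FF : PP G p T ≤ HH G (FF G p T) := le_HH_iff.2 Subset.rfl

theorem le_PP {D : Subgroup G} (hD : IsPGroup p D) (h : D ≤ HH G T) : D ≤ PP G p T :=
  fun x hx => subset_closure ⟨h hx, isPGroup_iff_mem.1 hD x hx⟩

theorem FF_sub {D : Subgroup G} (h : D ≤ PP G p T) : FF G p T ⊆ fx Ω D :=
  fun _ ha => mem_fx.2 fun x hx => mem_fx.1 ha x (h hx)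

theorem PP_smul (g : G) : PP G p (g • T) = PP G p T ^ᶜ g := by
  have k : ∀ (g : G) (T : Finset Ω), PP G p T ^ᶜ g ≤ PP G p (g • T) := fun g T => cj_le_iff.2
    ((closure_le _).2 fun x ⟨h1, k, h2⟩ => mem_cj.2 (subset_closure
      ⟨by simpa using conj_HH_smul g h1, k, by rw [inv_inv, conj_pow, h2, mul_one, mul_inv_cancel]⟩))
  exact le_antisymm (le_cj_iff.2 (by simpa using k g⁻¹ (g • T))) (k g T)

theorem norm_PP (hg : g ∈ SS G T) : g ∈ 𝐍(PP G p T) := by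
  rw [← cj_eq_self_iff, ← PP_smul, smul_eq_of_SS hg]

theorem SS_FF (hg : g ∈ SS G T) : g ∈ SS G (FF G p T) := SS_of_normalizer (norm_PP hg)

theorem FF_smul (g : G) : FF G p (g • T) = g • FF G p T := by
  ext a
  rw [FF, PP_smul, ← inv_smul_mem_iff, FF, mem_fx, mem_fx]
  refine ⟨fun k x hx => ?_, fun k x hx => ?_⟩
  · have := k _ (cj_mem g hx)
    rwa [mul_smul, mul_smul, ← eq_inv_smul_iff] at this
  · have := k _ (mem_cj.1 hx)
    rwa [mul_smul, mul_smul, smul_inv_smul, smul_left_cancel_iff] at this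

namespace Q4

variable (h : Q4 G Ω m) [hp : Fact p.Prime]
include h

theorem card_FF (h4 : T.card = 4) (h4' : U.card = 4) : (FF G p U).card = (FF G p T).card := by
  obtain ⟨g, rfl⟩ := h.trT h4 h4'
  rw [FF_smul, card_smul_finset]

theorem mem_PP (hm : ¬ p ∣ m) (h4 : T.card = 4) : x ∈ PP G p T ↔ x ∈ HH G T ∧ ∃ k : ℕ, x ^ p ^ k = 1 := by
  refine ⟨fun hx => ?_, fun hx => subset_closure hx⟩
  haveI := h.nil h4
  obtain ⟨S⟩ : Nonempty (Sylow p (KK G m T)) := inferInstance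
  have hS := isSylowIn_map_subtype S
  have hn := normal_iff_le_normalizer_map.1 (S.normal_of_normalizerCondition normalizerCondition_of_isNilpotent)
  refine ⟨PP_le hx, isPGroup_iff_mem.1 hS.2 x ((closure_le _).2 ?_ hx)⟩
  rintro y ⟨h1, k, h2⟩
  have h3 := zpowers_le.2 ((h.mem_KK h4).2 ⟨h1, cop_of hp.out hm h2⟩)
  exact hS.le_of_le_normalizer' (pg_zpowers h2) h3 (h3.trans hn) (mem_zpowers y)

theorem pg_PP (hm : ¬ p ∣ m) (h4 : T.card = 4) : IsPGroup p (PP G p T) :=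
  isPGroup_iff_mem.2 fun _ hx => ((h.mem_PP hm h4).1 hx).2

theorem PP_le_KK (hm : ¬ p ∣ m) (h4 : T.card = 4) : PP G p T ≤ KK G m T := fun _ hx => by
  obtain ⟨h1, k, h2⟩ := (h.mem_PP hm h4).1 hx
  exact (h.mem_KK h4).2 ⟨h1, cop_of hp.out hm h2⟩

theorem PP_eq (hm : ¬ p ∣ m) (h4 : T.card = 4) (h4' : U.card = 4) (hU : U ⊆ FF G p T) :
    PP G p U = PP G p T := by
  refine (eq_of_le_of_card_ge (le_PP (h.pg_PP hm h4) (le_HH_iff.2 hU)) ?_).symm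
  obtain ⟨g, rfl⟩ := h.trT h4 h4'
  rw [PP_smul, card_cj]

theorem FF_eq (hm : ¬ p ∣ m) (h4 : T.card = 4) (h4' : U.card = 4) (hU : U ⊆ FF G p T) :
    FF G p U = FF G p T := by rw [FF, h.PP_eq hm h4 h4' hU, FF]

theorem FF_inter (hm : ¬ p ∣ m) (h4 : T.card = 4) (h4' : U.card = 4) (ha : a ∈ FF G p U) (ha' : a ∉ FF G p T) :
    (FF G p U ∩ FF G p T).card ≤ 3 := by
  by_contra hn
  obtain ⟨V, hV, h5⟩ := exists_subset_card_eq (show 4 ≤ _ from not_le.1 hn)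
  rw [← h.FF_eq hm h4' h5 (hV.trans inter_subset_left), h.FF_eq hm h4 h5 (hV.trans inter_subset_right)] at ha
  exact ha' ha

theorem tr4_FF (hm : ¬ p ∣ m) (h4 : T.card = 4) : Tr4 (SS G (FF G p T)) (FF G p T) := by
  intro a b c d a' b' c' d' k k' h1 h2 h3 h5 h1' h2' h3' h5'
  obtain ⟨g, rfl, rfl, rfl, rfl⟩ := h.tr k k'
  refine ⟨g, fun y => ?_, rfl, rfl, rfl, rfl⟩
  have e : g • FF G p T = FF G p T := by
    rw [← h.FF_eq hm h4 k.card (by simp [insert_subset_iff, *]), ← FF_smul, smul4,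
      h.FF_eq hm h4 k'.card (by simp [insert_subset_iff, *]),
      h.FF_eq hm h4 k.card (by simp [insert_subset_iff, *])]
  rw [← smul_mem_smul_finset_iff g (b := y), e]

theorem dvd_FF (hm : ¬ p ∣ m) (h4 : T.card = 4) {Φ : Finset Ω} (hΦ : ∀ U ⊆ Φ, U.card = 4 → FF G p U ⊆ Φ)
    (hab : a ≠ b) (hac : a ≠ c) (hbc : b ≠ c) (hs : {a, b, c} ⊆ Φ) : (FF G p T).card - 3 ∣ Φ.card - 3 := by
  have c3 : ({a, b, c} : Finset Ω).card = 3 := card_eq_three.2 ⟨a, b, c, hab, hac, hbc, rfl⟩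
  have c4 : ∀ y ∈ Φ \ {a, b, c}, (insert y {a, b, c} : Finset Ω).card = 4 := fun y hy => by
    rw [card_insert_of_notMem (mem_sdiff.1 hy).2, c3]
  rw [← c3, ← card_sdiff_of_subset hs, c3]
  refine dvd_of_fibers _ (fun y => FF G p (insert y {a, b, c})) fun y hy => ?_
  rw [← h.card_FF h4 (c4 y hy), ← c3, ← card_sdiff_of_subset ((subset_insert y _).trans sub_FF)]
  congr 1
  ext z
  rw [mem_filter]
  refine ⟨fun k => mem_sdiff.2 ⟨k.2 ▸ sub_FF (mem_insert_self _ _), (mem_sdiff.1 k.1).2⟩, fun k => ?_⟩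
  have k1 := mem_sdiff.2 ⟨hΦ _ (insert_subset (mem_sdiff.1 hy).1 hs) (c4 y hy) (mem_sdiff.1 k).1,
    (mem_sdiff.1 k).2⟩
  exact ⟨k1, h.FF_eq hm (c4 y hy) (c4 z k1)
    (insert_subset (mem_sdiff.1 k).1 ((subset_insert y _).trans sub_FF))⟩

theorem mod_FF (hm : ¬ p ∣ m) (h4 : T.card = 4) : Fintype.card Ω ≡ (FF G p T).card [MOD p] := by
  have := card_modEq (h.pg_PP hm h4) (A := (univ : Finset Ω)) fun _ _ => SS_univ
  rwa [card_univ, show _ ∩ _ = FF G p T by ext; simp [FF]] at this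

variable (hm : ¬ 2 ∣ m)
include hm

theorem PP_inv (h4 : T.card = 4) : ∃ t ∈ PP G 2 T, t * t = 1 ∧ t ≠ 1 := by
  obtain ⟨t, ht, t2, t1⟩ := h.exists_inv h4
  exact ⟨t, (h.mem_PP hm h4).2 ⟨ht, 1, by rwa [pow_one, sq]⟩, t2, t1⟩

theorem hallF (h4 : T.card = 4) :
    (((FF G 2 T).card = 4 ∨ (FF G 2 T).card = 5 ∨ (FF G 2 T).card = 6 ∨ (FF G 2 T).card = 11) ∧
      HH G T ≤ HH G (FF G 2 T)) ∨ ((FF G 2 T).card = 7 ∧ ∃ w ∈ HH G T, w ∉ HH G (FF G 2 T)) := by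
  refine (hall le_rfl (h.tr4_FF hm h4) sub_FF h4 fun w _ hw => ?_).imp
    (fun k => ⟨k.1, fun w hw => k.2 w (SS_FF (HH_le_SS hw)) hw⟩) fun ⟨k, w, _, k1⟩ => ⟨k, w, k1⟩
  obtain ⟨s, i, e⟩ := ppart w 2 1
  rw [← pow_mul, ← pow_succ'] at e
  exact ⟨_, ⟨s, by rw [pow_one]⟩, PP_le_FF ((h.mem_PP hm h4).2 ⟨pow_mem hw _, i, e⟩)⟩

theorem sts (h4 : T.card = 4) (ho : Odd (FF G 2 T).card) :
    6 ∣ (FF G 2 T).card * (FF G 2 T).card - (FF G 2 T).card := by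
  obtain ⟨D, ⟨h1, h2⟩, h3⟩ := wellFounded_gt.has_min {D | D ≤ PP G 2 T ∧ ¬ fx Ω D ⊆ FF G 2 T} ⟨⊥, bot_le, fun k => by
    obtain ⟨t, ht, -, t1⟩ := h.PP_inv hm h4
    exact t1 (h.faith t fun a => PP_le_FF ht a (k (mem_fx.2 fun x hx => by rw [mem_bot.1 hx, one_smul])))⟩
  obtain ⟨t, ht, t1⟩ := SetLike.exists_of_lt (lt_inf_normalizer_of_lt (h.pg_PP hm h4)
    (h1.lt_of_ne fun e => h2 (e ▸ Subset.rfl)))
  obtain ⟨k, hk⟩ := ((h.mem_PP hm h4).1 ht.1).2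
  obtain ⟨j, s1, s2⟩ := exists_step t1 (hk ▸ one_mem D)
  have ht' := pow_mem ht (2 ^ j)
  generalize t ^ 2 ^ j = s at s1 s2 ht'
  obtain ⟨k, hk⟩ := ((h.mem_PP hm h4).1 ht'.1).2
  have s3 : ∀ y ∈ fx Ω D, s • y = y → y ∈ FF G 2 T := fun y hy e => by
    by_contra hn
    exact h3 (D ⊔ zpowers s) ⟨sup_le h1 (zpowers_le.2 ht'.1), fun k => hn (k (le_HH_iff.1 (sup_le
      (le_HH_iff.2 (singleton_subset_iff.2 hy)) (zpowers_le.2 (by simpa [mem_HH] using e)))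
        (mem_singleton_self y)))⟩ (left_lt_sup.2 fun k => s1 (k (mem_zpowers s)))
  obtain ⟨x, hx, x1⟩ := not_subset.1 h2
  have hx' := (SS_of_normalizer ht'.2 x).2 hx
  have x2 : s • x ∉ FF G 2 T := fun k => x1 ((HH_le_SS (PP_le_FF ht'.1) x).1 k)
  have x3 : s • s • x = x := by rw [← mul_smul, ← sq, mem_fx.1 hx _ s2]
  have c4 : ∀ z ∈ (FF G 2 T).offDiag, ({x, s • x, z.1, z.2} : Finset Ω).card = 4 := fun z hz => by
    obtain ⟨k1, k2, k3⟩ := mem_offDiag.1 hz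
    exact D4.card ⟨fun e => x1 (s3 x hx e.symm), fun e => x1 (e ▸ k1), fun e => x1 (e ▸ k2),
      fun e => x2 (e ▸ k1), fun e => x2 (e ▸ k2), k3⟩
  rw [← offDiag_card]
  refine dvd_of_fibers _ (fun z => FF G 2 {x, s • x, z.1, z.2}) fun z hz => ?_
  obtain ⟨k1, k2, k3⟩ := mem_offDiag.1 hz
  have b1 : FF G 2 {x, s • x, z.1, z.2} ⊆ fx Ω D := FF_sub (le_PP ((h.pg_PP hm h4).to_le h1) (le_HH_iff.2 (by
    simp [insert_subset_iff, hx, hx', FF_sub h1 k1, FF_sub h1 k2])))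
  have b2 := card_modEq_fe (p := 2) hk (SS_FF (p := 2) (T := {x, s • x, z.1, z.2}) (mem_SS_of (by
    simp [x3, PP_le_FF ht'.1 _ k1, PP_le_FF ht'.1 _ k2])))
  have b3 := h.FF_inter hm h4 (c4 z hz) (sub_FF (mem_insert_self _ _)) x1
  have b4 : ({z.1, z.2} : Finset Ω).card ≤ (FF G 2 {x, s • x, z.1, z.2} ∩ FF G 2 T).card :=
    card_le_card (subset_inter (Subset.trans (by simp [insert_subset_iff]) sub_FF) (by simp [insert_subset_iff, *]))
  have b5 : (FF G 2 {x, s • x, z.1, z.2} ∩ FF G 2 T).card = 3 := by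
    rw [h.card_FF h4 (c4 z hz), show _ ∩ _ = FF G 2 {x, s • x, z.1, z.2} ∩ FF G 2 T from ?_] at b2
    · rw [card_pair k3] at b4
      obtain ⟨i, hi⟩ := ho
      unfold Nat.ModEq at b2
      omega
    · ext y
      simp only [mem_inter, mem_fe]
      exact and_congr_right fun k => ⟨s3 y (b1 k), PP_le_FF ht'.1 y⟩
  rw [show 6 = 3 * 3 - 3 from rfl, ← b5, ← offDiag_card]
  congr 1
  ext w
  rw [mem_filter, mem_offDiag, mem_offDiag, mem_inter, mem_inter]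
  refine ⟨fun ⟨k, e⟩ => ⟨⟨e ▸ sub_FF (by simp), k.1⟩, ⟨e ▸ sub_FF (by simp), k.2.1⟩, k.2.2⟩,
    fun ⟨⟨l1, l2⟩, ⟨l3, l4⟩, l5⟩ => ⟨⟨l2, l4, l5⟩, h.FF_eq hm (c4 z hz) (c4 w (mem_offDiag.2 ⟨l2, l4, l5⟩)) ?_⟩⟩
  exact insert_subset (sub_FF (by simp)) (insert_subset (sub_FF (by simp)) (by simp [insert_subset_iff, *]))

theorem blk (h4 : T.card = 4) :
    (((FF G 2 T).card = 4 ∨ (FF G 2 T).card = 6) ∧ HH G T ≤ HH G (FF G 2 T)) ∨
      ((FF G 2 T).card = 7 ∧ ∃ w ∈ HH G T, w ∉ HH G (FF G 2 T)) := by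
  refine (h.hallF hm h4).imp_left fun ⟨k, k1⟩ => ⟨?_, k1⟩
  have := h.sts hm h4
  rcases k with k | k | k | k
  · exact Or.inl k
  · exact absurd (this (k ▸ by decide)) (k ▸ by decide)
  · exact Or.inr k
  · exact absurd (this (k ▸ by decide)) (k ▸ by decide)

end Q4

end H41.Q4
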