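import Mathlib
import Cfsg.Agent.Base
import Cfsg.Agent.Lib.Quad4.Blk

/-! Elements of prime order in the Frobenius complements and their normalisers. -/

set_option autoImplicit false
set_option linter.style.haveILetI false
set_option linter.unusedSectionVars false

namespace H41.Q4

open Subgroup MulAction H69 Finset
open scoped Pointwise

section grp

variable {G : Type*} [Group G] [Finite G] {x y t u c : G} {D : Subgroup G}

theorem pow_gcd_mem {a b : ℕ} (ha : x ^ a ∈ D) (hb : x ^ b ∈ D) : x ^ a.gcd b ∈ D := by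
  rw [← zpow_natCast, Nat.gcd_eq_gcd_ab, zpow_add, zpow_mul, zpow_mul, zpow_natCast, zpow_natCast]
  exact mul_mem (zpow_mem ha _) (zpow_mem hb _)

theorem mem_of_cop {a b : ℕ} (ha : x ^ a ∈ D) (hb : x ^ b ∈ D) (h : a.Coprime b) : x ∈ D := by
  have := pow_gcd_mem ha hb
  rwa [h.gcd_eq_one, pow_one] at this

theorem mem_of_cop' {a : ℕ} (ha : x ^ a ∈ D) (h : (orderOf x).Coprime a) : x ∈ D :=
  mem_of_cop (by rw [pow_orderOf_eq_one]; exact one_mem D) ha h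

/-- The `p`-part and the `p'`-part. -/
theorem decomp (x : G) (p : ℕ) [hp : Fact p.Prime] :
    ∃ u ∈ zpowers x, ∃ v ∈ zpowers x, x = u * v ∧ (∃ i : ℕ, u ^ p ^ i = 1) ∧ ¬ p ∣ orderOf v := by
  obtain ⟨a, k, hk, e⟩ := Nat.exists_eq_pow_mul_and_not_dvd (orderOf_pos x).ne' p hp.out.ne_one
  obtain ⟨s, i, h⟩ := ppart x p a
  have h1 := pow_mem (npow_mem_zpowers x (p ^ a)) s
  refine ⟨_, mul_mem (mem_zpowers x) h1, _, inv_mem h1, by group, ⟨i, h⟩, fun h2 => hk (h2.trans ?_)⟩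
  rw [orderOf_inv, orderOf_dvd_iff_pow_eq_one, ← pow_mul, mul_comm, pow_mul, ← pow_mul x, ← e,
    pow_orderOf_eq_one, one_pow]

theorem exists_cj_pow (hu : u ∈ 𝐍(zpowers t)) : ∃ i : ℕ, u * t * u⁻¹ = t ^ i := by
  obtain ⟨i, e⟩ := (mem_powers_iff_mem_zpowers).2 ((mem_normalizer_iff.1 hu t).1 (mem_zpowers t))
  exact ⟨i, e.symm⟩

theorem norm_zp (h : u * t * u⁻¹ ∈ zpowers t) : u ∈ 𝐍(zpowers t) :=
  mem_normalizer_of_cj_le fun _ hz => by
    obtain ⟨_, ⟨j, rfl⟩, rfl⟩ := mem_cj'.1 hz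
    rw [← conj_zpow]
    exact zpow_mem h j

theorem norm_zp_of_comm (h : Commute u t) : u ∈ 𝐍(zpowers t) :=
  norm_zp (by rw [h.eq, mul_inv_cancel_right]; exact mem_zpowers t)

/-- Commutators of elements normalising a cyclic group centralise it. -/
theorem comm_zp (hu : u ∈ 𝐍(zpowers t)) (hc : c ∈ 𝐍(zpowers t)) : Commute (u * c * u⁻¹ * c⁻¹) t := by
  obtain ⟨i, hi⟩ := exists_cj_pow hu
  obtain ⟨j, hj⟩ := exists_cj_pow hc
  have h : u * c * t * (u * c)⁻¹ = c * u * t * (c * u)⁻¹ := by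
    calc _ = u * (c * t * c⁻¹) * u⁻¹ := by group
      _ = t ^ (i * j) := by rw [hj, ← conj_pow, hi, pow_mul]
      _ = c * (u * t * u⁻¹) * c⁻¹ := by rw [hi, ← conj_pow, hj, ← pow_mul, mul_comm]
      _ = _ := by group
  have h1 : Commute ((c * u)⁻¹ * (u * c)) t := by
    change _ = _
    calc _ = (c * u)⁻¹ * (u * c * t * (u * c)⁻¹) * (u * c) := by group
      _ = _ := by rw [h]; group
  have h2 : (c * u)⁻¹ * (u * c) ∈ centralizer (zpowers t : Set G) := by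
    rintro _ ⟨k, rfl⟩
    exact (h1.zpow_right k).symm.eq
  have h3 := h2 _ ((mem_normalizer_iff.1 (inv_mem (mul_mem hc hu)) t).1 (mem_zpowers t))
  change _ = _
  calc _ = c * u * ((c * u)⁻¹ * (u * c) * ((c * u)⁻¹ * t * (c * u)⁻¹⁻¹)) * (c * u)⁻¹ := by group
    _ = _ := by rw [← h3]; group

theorem zpowers_eq_of_prime {r : ℕ} (hr : r.Prime) (hc : orderOf c = r) (hx : x ∈ zpowers c) (h1 : x ≠ 1) :
    zpowers x = zpowers c := by
  refine eq_of_le_of_card_ge (zpowers_le.2 hx) ?_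
  rw [Nat.card_zpowers, Nat.card_zpowers, hc]
  exact ((Nat.dvd_prime hr).1 (hc ▸ orderOf_dvd_of_mem_zpowers hx)).elim
    (fun e => (h1 (orderOf_eq_one_iff.1 e)).elim) fun e => e.ge

end grp

variable {G Ω : Type*} [Group G] [Finite G] [MulAction G Ω] [Fintype Ω] [DecidableEq Ω]
variable {m p r : ℕ} {T U A : Finset Ω} {g x y c w : G} {a b d : Ω} {S : Subgroup G}

theorem card_sma {W : Subgroup G} (h : W ≤ SS G A) : Nat.card (sma W A h) = A.card := by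
  rw [← Nat.card_eq_finsetCard]
  rfl

theorem pow_fact (hx : x ∈ SS G A) : x ^ A.card.factorial ∈ HH G A := fun a ha => by
  have h := pow_card_eq_one' (x := toPermHom (SS G A) (sma (SS G A) A le_rfl) ⟨x, hx⟩)
  rw [Nat.card_perm, card_sma, ← map_pow] at h
  exact congrArg Subtype.val (DFunLike.congr_fun h (⟨a, ha⟩ : sma (SS G A) A le_rfl))

theorem fix_of_cop (hx : x ∈ SS G A) (h : (orderOf x).Coprime A.card.factorial) : x ∈ HH G A :=
  mem_of_cop' (pow_fact hx) h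

theorem HH_union (h1 : x ∈ HH G T) (h2 : x ∈ HH G U) : x ∈ HH G (T ∪ U) :=
  fun a ha => (mem_union.1 ha).elim (h1 a) (h2 a)

theorem HH_of_sdiff (h1 : x ∈ HH G T) (h2 : x ∈ HH G (U \ T)) : x ∈ HH G U := fun a ha => by
  by_cases h : a ∈ T
  · exact h1 a h
  · exact h2 a (mem_sdiff.2 ⟨ha, h⟩)

theorem norm_HH (hg : g ∈ SS G T) : g ∈ 𝐍(HH G T) :=
  mem_normalizer_of_cj_le fun _ hz => by
    obtain ⟨y, hy, rfl⟩ := mem_cj'.1 hz
    exact conj_HH hg hy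

theorem fe_eq_of_zpowers (h : zpowers x = zpowers y) : fe Ω x = fe Ω y := by
  rw [← fx_zpowers, h, fx_zpowers]

theorem fe_mono (h : x ∈ zpowers y) : fe Ω y ⊆ fe Ω x := mem_HH_iff.1 (zpowers_le.2 mem_HH_fe h)

open Classical in
/-- The orbit of `a` under `S`. -/
noncomputable def orb (S : Subgroup G) (a : Ω) : Finset Ω := univ.filter fun b => ∃ s ∈ S, s • a = b

theorem mem_orb : b ∈ orb S a ↔ ∃ s ∈ S, s • a = b := by simp [orb]

theorem self_mem_orb : a ∈ orb S a := mem_orb.2 ⟨1, one_mem S, one_smul G a⟩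

theorem orb_SS : S ≤ SS G (orb S a) := fun s hs => mem_SS_of fun _ hb => by
  obtain ⟨t, ht, rfl⟩ := mem_orb.1 hb
  exact mem_orb.2 ⟨_, mul_mem hs ht, mul_smul s t a⟩

theorem orb_sub (hS : S ≤ SS G A) (ha : a ∈ A) : orb S a ⊆ A := fun _ hb => by
  obtain ⟨t, ht, rfl⟩ := mem_orb.1 hb
  exact (hS ht a).2 ha

theorem orb_eq (hb : b ∈ orb S a) : orb S b = orb S a := by
  refine (orb_sub orb_SS hb).antisymm (orb_sub orb_SS ?_)
  obtain ⟨t, ht, rfl⟩ := mem_orb.1 hb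
  exact mem_orb.2 ⟨_, inv_mem ht, inv_smul_smul t a⟩

theorem orb_smul (hg : g ∈ 𝐍(S)) : orb S (g • a) = g • orb S a := by
  ext b
  rw [← inv_smul_mem_iff, mem_orb, mem_orb]
  refine ⟨fun ⟨s, hs, e⟩ => ⟨g⁻¹ * s * g, (mem_normalizer_iff''.1 hg s).1 hs, by simp [mul_smul, e]⟩,
    fun ⟨s, hs, e⟩ => ⟨g * s * g⁻¹, (mem_normalizer_iff.1 hg s).1 hs, by simp [mul_smul, e]⟩⟩

/-- Orbit-stabiliser. -/
theorem card_orb (S : Subgroup G) (a : Ω) : (orb S a).card * Nat.card ↥(S ⊓ HH G {a}) = Nat.card S := by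
  have h := Nat.card_congr (orbitProdStabilizerEquivGroup S a)
  rw [Nat.card_prod] at h
  rw [← h, ← Nat.card_eq_finsetCard]
  congr 1
  · exact Nat.card_congr (Equiv.subtypeEquivRight fun b =>
      mem_orb.trans ⟨fun ⟨s, hs, e⟩ => ⟨⟨s, hs⟩, e⟩, fun ⟨s, e⟩ => ⟨s, s.2, e⟩⟩)
  · exact Nat.card_congr ⟨fun z => ⟨⟨z.1, z.2.1⟩, z.2.2 a (mem_singleton_self a)⟩,
      fun z => ⟨z.1.1, z.1.2, fun b hb => by rw [mem_singleton.1 hb]; exact z.2⟩, fun _ => rfl, fun _ => rfl⟩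

theorem card_orb_dvd (S : Subgroup G) (a : Ω) : (orb S a).card ∣ Nat.card S := Dvd.intro _ (card_orb S a)

/-- All orbits in `A` have the same length. -/
theorem dvd_of_orb (hS : S ≤ SS G A) {k : ℕ} (h : ∀ a ∈ A, (orb S a).card = k) : k ∣ A.card := by
  refine dvd_of_fibers A (orb S) fun a ha => (congrArg card ?_).trans (h a ha)
  ext b
  rw [mem_filter]
  exact ⟨fun k => k.2 ▸ self_mem_orb, fun k => ⟨orb_sub hS ha k, orb_eq k⟩⟩

theorem dvd_of_semireg (hS : S ≤ SS G A) (h : ∀ s ∈ S, ∀ a ∈ A, s • a = a → s = 1) : Nat.card S ∣ A.card :=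
  dvd_of_orb hS fun a ha => by
    rw [← card_orb S a, show S ⊓ HH G {a} = ⊥ from
      eq_bot_iff.2 fun s hs => h s hs.1 a ha (hs.2 a (mem_singleton_self a)), card_bot, mul_one]

theorem pow_smul_ne (hr : r.Prime) (hc : orderOf c = r) (ha : c • a ≠ a) {i j : ℕ} (hij : i < j) (hj : j < r) :
    c ^ i • a ≠ c ^ j • a := fun e => by
  obtain ⟨k, rfl⟩ := Nat.exists_eq_add_of_lt hij
  rw [add_assoc, pow_add, mul_smul, smul_left_cancel_iff] at e
  refine ha (mem_of_cop' (D := stabilizer G a) e.symm ?_)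
  rw [hc]
  exact Nat.coprime_of_lt_prime (by omega) (by omega) hr

theorem D4_orb (hr : r.Prime) (h5 : 4 ≤ r) (hc : orderOf c = r) (ha : c • a ≠ a) :
    D4 a (c • a) (c ^ 2 • a) (c ^ 3 • a) := by
  have k := fun i j => pow_smul_ne (i := i) (j := j) hr hc ha
  refine ⟨?_, ?_, ?_, ?_, ?_, k 2 3 (by omega) (by omega)⟩
  · simpa using k 0 1 (by omega) (by omega)
  · simpa using k 0 2 (by omega) (by omega)
  · simpa using k 0 3 (by omega) (by omega)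
  · simpa using k 1 2 (by omega) (by omega)
  · simpa using k 1 3 (by omega) (by omega)

theorem comm_fix (h : Commute x c) (ha : x • a = a) (i : ℕ) : x • c ^ i • a = c ^ i • a := by
  rw [← mul_smul, (h.pow_right i).eq, mul_smul, ha]

/-- An element moving three points cyclically, or its square, moves them in the given order. -/
theorem cyc3 {e : Ω} (hx : x ∈ SS G {a, b, e}) (h1 : x • a ≠ a) (h2 : x • b ≠ b) (h3 : x • e ≠ e)
    (hab : a ≠ b) (hae : a ≠ e) (hbe : b ≠ e) :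
    ∃ z, (z = x ∨ z = x * x) ∧ z • a = b ∧ z • b = e ∧ z • e = a := by
  have k1 := (hx a).2 (by simp)
  have k2 := (hx b).2 (by simp)
  have k3 := (hx e).2 (by simp)
  have i : ∀ {s t : Ω}, s ≠ t → x • s ≠ x • t := fun h e => h (smul_left_cancel x e)
  have i1 := i hab
  have i2 := i hae
  have i3 := i hbe
  simp only [mem_insert, mem_singleton] at k1 k2 k3
  by_cases h : x • a = b
  · exact ⟨x, Or.inl rfl, by grind⟩
  · refine ⟨x * x, Or.inr rfl, ?_⟩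
    simp only [mul_smul]
    grind

/-- An element of prime order dividing `m` with at least four fixed points. -/
structure Gd (Ω : Type*) [Fintype Ω] [MulAction G Ω] (m r : ℕ) (c : G) : Prop where
  pr : r.Prime
  dvd : r ∣ m
  ord : orderOf c = r
  four : 4 ≤ (fe Ω c).card

theorem NZ_SS : 𝐍(zpowers c) ≤ SS G (fe Ω c) := fun _ hg => by
  rw [← fx_zpowers]
  exact SS_of_normalizer hg

namespace Gd

variable (k : Gd Ω m r c)
include k

theorem ne : c ≠ 1 := fun e => k.pr.ne_one (by rw [← k.ord, e, orderOf_one])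

theorem pow : c ^ r = 1 := by rw [← k.ord, pow_orderOf_eq_one]

theorem ncop : ¬ (orderOf c).Coprime m := not_cop k.pr k.dvd k.ord.symm.dvd

theorem exT : ∃ T ⊆ fe Ω c, T.card = 4 := exists_subset_card_eq k.four

theorem ne2 (hm : ¬ 2 ∣ m) : r ≠ 2 := fun e => hm (e ▸ k.dvd)

theorem of (h1 : x ≠ 1) (h2 : x ^ r = 1) (h4 : 4 ≤ (fe Ω x).card) : Gd Ω m r x :=
  haveI := Fact.mk k.pr
  ⟨k.pr, k.dvd, orderOf_eq_prime h2 h1, h4⟩

theorem conj (g : G) : Gd Ω m r (g * c * g⁻¹) :=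
  ⟨k.pr, k.dvd, (orderOf_cj g c).trans k.ord, by rw [card_fe_conj]; exact k.four⟩

end Gd

namespace Q4

variable (h : Q4 G Ω m)
include h

theorem exists_gd (h4 : T.card = 4) (hy : y ∈ HH G T) (hy' : ¬ (orderOf y).Coprime m) :
    ∃ c ∈ zpowers y, ∃ r, Gd Ω m r c := by
  obtain ⟨c, hc, r, h1, h2, h3⟩ := h.exists_prime h4 hy hy'
  exact ⟨c, hc, r, h1, h2, h3, h4 ▸ card_le_card (mem_HH_iff.1 (zpowers_le.2 hy hc))⟩

theorem exists_gd' (h4 : T.card = 4) : ∃ c ∈ HH G T, ∃ r, Gd Ω m r c := by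
  obtain ⟨y, hy, hy'⟩ := h.ne2 T h4
  obtain ⟨c, hc, k⟩ := h.exists_gd h4 hy hy'
  exact ⟨c, zpowers_le.2 hy hc, k⟩

theorem noK (k : Gd Ω m r c) (h4 : T.card = 4) (hT : T ⊆ fe Ω c) (hw : w ∈ 𝐍(zpowers c))
    (hK : w ∈ KK G m T) : w = 1 := by
  have hc := mem_HH_iff.2 hT
  have h1 : w * c * w⁻¹ * c⁻¹ ∈ zpowers c :=
    mul_mem ((mem_normalizer_iff.1 hw c).1 (mem_zpowers c)) (inv_mem (mem_zpowers c))
  have h2 : w * (c * w⁻¹ * c⁻¹) ∈ KK G m T :=
    mul_mem hK ((mem_normalizer_iff.1 (h.norm_KK h4 (HH_le_SS hc)) _).1 (inv_mem hK))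
  refine h.fpf h4 hc k.ncop hK (commutatorElement_eq_one_iff_commute.1 (by_contra fun e => ?_))
  exact h.pow h4 hc k.ncop h1 e (by simpa [mul_assoc] using ((h.mem_KK h4).1 h2).2)

variable (hm : ¬ 2 ∣ m)
include hm

theorem tr4W (k : Gd Ω m r c) : Tr4 (𝐍(zpowers c)) (fe Ω c) := by
  intro a b e d a' b' e' d' k1 k2 h1 h2 h3 h5 h1' h2' h3' h5'
  haveI := Fact.mk k.pr
  obtain ⟨g, rfl, rfl, rfl, rfl⟩ := h.tr k1 k2
  obtain ⟨u, hu, hu'⟩ := h.conj_r k2.card (k.ne2 hm) k.dvd (x := g * c * g⁻¹) (y := c)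
    (mem_HH_iff.2 (by simp [insert_subset_iff, mem_fe_conj, *])) (mem_HH_iff.2 (by simp [insert_subset_iff, *]))
    (k.conj g).pow k.ord
  rw [mem_HH4] at hu
  exact ⟨u * g, norm_zp (by simpa [mul_assoc] using hu'), by simp [mul_smul, hu]⟩

theorem oddW (k : Gd Ω m r c) (h4 : T.card = 4) (hT : T ⊆ fe Ω c) (hw : w ∈ 𝐍(zpowers c))
    (hw' : w ∈ HH G T) : Odd (orderOf w) := by
  obtain ⟨u, hu, v, -, e, ⟨i, hi⟩, hv⟩ := decomp w 2
  rw [h.noK k h4 hT (zpowers_le.2 hw hu) ((h.mem_KK h4).2 ⟨zpowers_le.2 hw' hu, cop_of Nat.prime_two hm hi⟩),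
    one_mul] at e
  exact Nat.odd_iff.2 (by rw [e]; omega)

theorem hallW (k : Gd Ω m r c) (h4 : T.card = 4) (hT : T ⊆ fe Ω c) :
    (((fe Ω c).card = 4 ∨ (fe Ω c).card = 5 ∨ (fe Ω c).card = 6 ∨ (fe Ω c).card = 11) ∧
      ∀ w ∈ 𝐍(zpowers c), w ∈ HH G T → w ∈ HH G (fe Ω c)) ∨
    ((fe Ω c).card = 7 ∧ ∃ w ∈ 𝐍(zpowers c), w ∈ HH G T ∧ w ∉ HH G (fe Ω c)) :=
  hall NZ_SS (h.tr4W hm k) hT h4 fun w hw hw' =>
    ⟨_, h.oddW hm k h4 hT hw hw', by rw [pow_orderOf_eq_one]; exact one_mem _⟩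

theorem phi (k : Gd Ω m r c) : (fe Ω c).card = 4 ∨ (fe Ω c).card = 5 ∨ (fe Ω c).card = 6 ∨
    (fe Ω c).card = 7 ∨ (fe Ω c).card = 11 := by
  obtain ⟨T, hT, h4⟩ := k.exT
  have := h.hallW hm k h4 hT
  omega

/-- Sharpness of `N(c)` on the fixed points of `c`. -/
theorem sharp (k : Gd Ω m r c) (h7 : (fe Ω c).card ≠ 7) (h4 : T.card = 4) (hT : T ⊆ fe Ω c)
    (hw : w ∈ 𝐍(zpowers c)) (hw' : w ∈ HH G T) : w ∈ HH G (fe Ω c) :=
  ((h.hallW hm k h4 hT).resolve_right fun e => h7 e.1).2 w hw hw'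

theorem conj_gd (k : Gd Ω m r c) (k' : Gd Ω m r x) : ∃ g : G, zpowers (g * x * g⁻¹) = zpowers c := by
  haveI := Fact.mk k.pr
  obtain ⟨T, hT, h4⟩ := k.exT
  obtain ⟨U, hU, h4'⟩ := k'.exT
  obtain ⟨g, rfl⟩ := h.trT h4' h4
  obtain ⟨u, -, hu⟩ := h.conj_r h4 (k.ne2 hm) k.dvd (conj_HH_smul g (mem_HH_iff.2 hU)) (mem_HH_iff.2 hT)
    (k'.conj g).pow k.ord
  refine ⟨u * g, zpowers_eq_of_prime k.pr k.ord (by simpa [mul_assoc] using hu) (k'.conj _).ne⟩

theorem card_fe_eq (k : Gd Ω m r c) (k' : Gd Ω m r x) : (fe Ω x).card = (fe Ω c).card := by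
  obtain ⟨g, e⟩ := h.conj_gd hm k k'
  rw [← fe_eq_of_zpowers e, card_fe_conj]

/-- Commuting `r`-elements in a four-point stabiliser. -/
theorem mem_zp (k : Gd Ω m r c) (h4 : T.card = 4) (hT : T ⊆ fe Ω c) (hx : x ∈ HH G T) (hr : x ^ r = 1)
    (hc : x ∈ 𝐍(zpowers c)) : x ∈ zpowers c := by
  haveI := Fact.mk k.pr
  have px : IsPGroup r (zpowers x) := pg_zpowers (k := 1) (by rwa [pow_one])
  have pc : IsPGroup r (zpowers c) := pg_zpowers (k := 1) (by rw [pow_one, k.pow])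
  exact H80.mem_zpowers_of_orderOf_dvd (h.cyc h4 (k.ne2 hm) k.dvd
    (sup_le (zpowers_le.2 hx) (zpowers_le.2 (mem_HH_iff.2 hT)))
    (IsPGroup.to_sup_of_normal_right' px pc (zpowers_le.2 hc))) (mem_sup_left (mem_zpowers x))
    (mem_sup_right (mem_zpowers c)) (k.ord ▸ orderOf_dvd_of_pow_eq_one hr)

/-- An element of a complement has at most eleven fixed points. -/
theorem le_eleven (h4 : T.card = 4) (hy : y ∈ HH G T) (hy' : ¬ (orderOf y).Coprime m) : (fe Ω y).card ≤ 11 := by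
  obtain ⟨c, hc, r, k⟩ := h.exists_gd h4 hy hy'
  have := card_le_card (fe_mono (Ω := Ω) hc)
  have := h.phi hm k
  omega

end Q4

end H41.Q4
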