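import Mathlib
import Cfsg.Agent.Base
import Cfsg.Agent.Lib.Quad4.Cen

/-! Elements of order three in the Frobenius complements: first facts. -/

set_option autoImplicit false
set_option linter.style.haveILetI false
set_option linter.unusedSectionVars false

namespace H41.Q4

open Subgroup MulAction H69 Finset
open scoped Pointwise

variable {G Ω : Type*} [Group G] [Finite G] [MulAction G Ω] [Fintype Ω] [DecidableEq Ω]
variable {m r : ℕ} {T : Finset Ω} {g x y c w v : G} {a b d e : Ω}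

/-- The elements of a group of order three. -/
theorem mem_zp3 (hc : c ^ 3 = 1) (hx : x ∈ zpowers c) : x = 1 ∨ x = c ∨ x = c * c := by
  obtain ⟨i, rfl⟩ := mem_powers_iff_mem_zpowers.2 hx
  change c ^ i = 1 ∨ c ^ i = c ∨ c ^ i = c * c
  rw [← Nat.div_add_mod i 3, pow_add, pow_mul, hc, one_pow, one_mul]
  rcases (by omega : i % 3 = 0 ∨ i % 3 = 1 ∨ i % 3 = 2) with e | e | e <;> simp [e, sq]

theorem sq_comm3 (hc : c ^ 3 = 1) (hw : w ∈ 𝐍(zpowers c)) : Commute (w ^ 2) c := by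
  obtain ⟨i, hi⟩ := exists_cj_pow hw
  have h : w ^ 2 * c * (w ^ 2)⁻¹ = c ^ (i * i) := by rw [pow_mul, ← hi, conj_pow, ← hi]; simp [sq, mul_assoc]
  have h1 : ∀ j, c ^ (3 * j + 1) = c := fun j => by rw [pow_succ, pow_mul, hc, one_pow, one_mul]
  change _ = _
  rw [← mul_inv_eq_iff_eq_mul, h]
  rcases (⟨i / 3, by omega⟩ : ∃ j, i = 3 * j ∨ i = 3 * j + 1 ∨ i = 3 * j + 2) with ⟨j, e | e | e⟩
  · rw [e, pow_mul, hc, one_pow, conj_eq_one_iff] at hi
    rw [hi, one_pow]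
  · rw [e, show (3 * j + 1) * (3 * j + 1) = 3 * (3 * j * j + 2 * j) + 1 by ring, h1]
  · rw [e, show (3 * j + 2) * (3 * j + 2) = 3 * (3 * j * j + 4 * j + 1) + 1 by ring, h1]

theorem odd_comm3 (hc : c ^ 3 = 1) (hw : w ∈ 𝐍(zpowers c)) (ho : Odd (orderOf w)) : Commute w c :=
  (mem_centralizer_singleton_iff.1 (mem_of_cop' (D := centralizer {c})
    (mem_centralizer_singleton_iff.2 (sq_comm3 hc hw)) ho.coprime_two_right))

/-- An odd power of `g` that is an involution. -/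
theorem exists_inv_pow (ho : Odd (orderOf (g * g))) : ∃ k, Odd k ∧ g ^ k * g ^ k = 1 :=
  ⟨_, ho, by rw [← (Commute.refl g).mul_pow, pow_orderOf_eq_one]⟩

theorem odd_pow_smul {k : ℕ} (hk : Odd k) (h1 : g • a = b) (h2 : g • b = a) : g ^ k • a = b := by
  obtain ⟨j, rfl⟩ := hk
  have : g ^ 2 ∈ stabilizer G b := by rw [mem_stabilizer_iff, sq, mul_smul, h2, h1]
  rw [pow_succ, mul_smul, h1, pow_mul]
  exact pow_mem this j

theorem card_HH_smul (g : G) (T : Finset Ω) : Nat.card (HH G (g • T)) = Nat.card (HH G T) := by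
  have k : ∀ (g : G) (T : Finset Ω), HH G T ^ᶜ g ≤ HH G (g • T) := fun g T _ hz => by
    obtain ⟨y, hy, rfl⟩ := mem_cj'.1 hz
    exact conj_HH_smul g hy
  rw [le_antisymm (le_cj_iff.2 (by simpa using k g⁻¹ (g • T))) (k g T), card_cj]

namespace Q4

variable (h : Q4 G Ω m)
include h

theorem card_HH {U : Finset Ω} (h4 : T.card = 4) (h4' : U.card = 4) : Nat.card (HH G U) = Nat.card (HH G T) := by
  obtain ⟨g, rfl⟩ := h.trT h4 h4'
  exact card_HH_smul g T

variable (hm : ¬ 2 ∣ m)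
include hm

theorem oddM (k : Gd Ω m r c) (hw : w ∈ 𝐍(zpowers c)) (hw' : w ∈ HH G (fe Ω c)) : Odd (orderOf w) := by
  obtain ⟨T, hT, h4⟩ := k.exT
  exact h.oddW hm k h4 hT hw (HH_mono hT hw')

theorem inter_le (k : Gd Ω m r c) (hr : x ^ r = 1) (hc : x ∈ 𝐍(zpowers c)) (hx : x ∉ zpowers c) :
    (fe Ω c ∩ fe Ω x).card ≤ 3 := by
  by_contra hn
  obtain ⟨T, hT, h4⟩ := exists_subset_card_eq (show 4 ≤ _ from not_le.1 hn)
  exact hx (h.mem_zp hm k h4 (hT.trans inter_subset_left) (mem_HH_iff.2 (hT.trans inter_subset_right)) hr hc)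

/-- An involution of `N(c)` that swaps two given pairs of fixed points of `c`. -/
theorem exists_swap (k : Gd Ω m r c) (hd : D4 a b d e) (hs : {a, b, d, e} ⊆ fe Ω c) :
    ∃ v ∈ 𝐍(zpowers c), v * v = 1 ∧ v • a = b ∧ v • b = a ∧ v • d = e ∧ v • e = d := by
  have hs' := hs
  simp only [insert_subset_iff, singleton_subset_iff] at hs'
  obtain ⟨g, hg, h1, h2, h3, h4⟩ := h.tr4W hm k hd
    ⟨hd.ab.symm, hd.bd, hd.bc, hd.ad, hd.ac, hd.cd.symm⟩ hs'.1 hs'.2.1 hs'.2.2.1 hs'.2.2.2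
    hs'.2.1 hs'.1 hs'.2.2.2 hs'.2.2.1
  obtain ⟨j, hj, e⟩ := exists_inv_pow (h.oddW hm k hd.card hs (mul_mem hg hg) (by simp [mem_HH4, mul_smul, *]))
  exact ⟨_, pow_mem hg j, e, odd_pow_smul hj h1 h2, odd_pow_smul hj h2 h1, odd_pow_smul hj h3 h4,
    odd_pow_smul hj h4 h3⟩

/-- For `b` moved by `c` and `a` fixed by `c` an element of order three commuting with `c` fixes both. -/
theorem T0 (k : Gd Ω m 3 c) (ha : a ∈ fe Ω c) (hb : b ∉ fe Ω c) :
    ∃ x, Gd Ω m 3 x ∧ Commute x c ∧ x • a = a ∧ x • b = b ∧ (fe Ω c ∩ fe Ω x).card ≤ 3 := by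
  have hb' : c • b ≠ b := fun e => hb (mem_fe.2 e)
  have k1 := fun i j => pow_smul_ne (i := i) (j := j) k.pr k.ord hb'
  have k2 : ∀ i, a ≠ c ^ i • b := fun i e => hb (by
    have := pow_mem (show c ∈ stabilizer G a from mem_fe.1 ha) i
    rwa [← smul_left_cancel (c ^ i) (this.trans e)])
  have hd : D4 a b (c • b) (c ^ 2 • b) := ⟨by simpa using k2 0, by simpa using k2 1, k2 2, hb'.symm,
    by simpa using k1 0 2 (by omega) (by omega), by simpa using k1 1 2 (by omega) (by omega)⟩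
  obtain ⟨T, hT, h4⟩ := k.exT
  obtain ⟨x, hx, o, hc⟩ := exists_cent (p := 3) (k := 1) (x := c) (by rw [pow_one, k.pow])
    (norm_HH (T := {a, b, c • b, c ^ 2 • b}) (mem_SS_of (by
      simp [mem_fe.1 ha, ← mul_smul, ← pow_succ', ← sq, k.pow])))
    (by rw [h.card_HH h4 hd.card, ← k.ord]; exact Subgroup.orderOf_dvd_natCard _ (mem_HH_iff.2 hT))
  have hx' := mem_HH4.1 hx
  refine ⟨x, ⟨k.pr, k.dvd, o, hd.card ▸ card_le_card (mem_HH_iff.1 hx)⟩, hc.symm, hx'.1, hx'.2.1,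
    h.inter_le hm k (by rw [← o, pow_orderOf_eq_one]) (norm_zp_of_comm hc.symm) fun k3 => hb ?_⟩
  rw [← fe_eq_of_zpowers (zpowers_eq_of_prime k.pr k.ord k3 fun e => by simp [e] at o), mem_fe]
  exact hx'.2.1

end Q4

end H41.Q4
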