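import Mathlib
import Cfsg.Agent.Base
import Cfsg.Agent.Lib.Quad4.T0
import Cfsg.Agent.Lib.Design.Aut
import Cfsg.Agent.S0035
import Cfsg.Agent.S0042
import Cfsg.Agent.S0413
import Cfsg.Prelude.Def_Solvable
import Cfsg.Prelude.Def_Spor_Mathieu

/-! The two ends of the argument: the hypothesis, and the recognition of `M₂₃`. -/

set_option autoImplicit false
set_option linter.style.haveILetI false
set_option linter.unusedSectionVars false

namespace H41.Q4

open Subgroup MulAction H69 Finset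
open scoped Pointwise

namespace End

theorem frob {X : Type*} [Group X] [Finite X] {C : Subgroup X} (hC : Cfsg.IsFrobeniusComplement C) :
    ∃ (m : ℕ) (N : Subgroup X), (∀ x, x ∈ N ↔ (orderOf x).Coprime m) ∧ Group.IsNilpotent N ∧
      (∀ x ∈ N, x ≠ 1 → ∀ y, Commute x y → y ∈ N) ∧ N ≠ ⊥ ∧ N ≠ ⊤ := by
  obtain ⟨N, e, hn, c⟩ := Cfsg.Agent.S0035.result C hC
  obtain ⟨N', e', -, nil⟩ := Cfsg.Agent.S0042.result C hC
  obtain rfl : N = N' := SetLike.coe_injective (e.trans e'.symm)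
  have nb : N ≠ ⊥ := fun e => hC.2.1 (by simpa [e] using c.sup_eq_top)
  have sr := (H2.isFrobeniusComplement_iff_semiregular c nb hC.1).1 hC
  have cop := H2.coprime_of_semiregular le_normalizer_of_normal sr
  refine ⟨Nat.card C, N, fun x => ⟨fun hx => cop.symm.coprime_dvd_left (N.orderOf_dvd_natCard hx), fun hx => ?_⟩,
    nil, fun x hx x1 y hy => H2.sup_inf_centralizer_le_of_semiregular le_normalizer_of_normal sr hx x1
      ⟨c.sup_eq_top ▸ mem_top y, mem_centralizer_singleton_iff.2 hy.symm.eq⟩, nb,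
    fun e => hC.1 (by simpa [e] using c.disjoint)⟩
  exact mem_of_cop' (c.symm.index_eq_card ▸ N.pow_index_mem x) hx

theorem eq_top_of_index {A : Type*} [Group A] [Finite A] [IsSimpleGroup A] {I : Subgroup A} {p : ℕ}
    (hp : p.Prime) (h : p ∣ Nat.card A) (hi : I.index < p) : I = ⊤ := by
  rcases I.normalCore_normal.eq_bot_or_eq_top with e | e
  · have := Fintype.ofFinite (A ⧸ I)
    classical
    have d := card_dvd_of_injective (toPermHom A (A ⧸ I)) ((MonoidHom.ker_eq_bot_iff _).1 (I.normalCore_eq_ker ▸ e))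
    rw [Nat.card_perm] at d
    exact absurd ((hp.dvd_factorial).1 (h.trans d)) (not_le.2 hi)
  · exact top_le_iff.1 (e ▸ I.normalCore_le)

end End

variable {G Ω : Type*} [Group G] [Finite G] [MulAction G Ω] [Fintype Ω] [DecidableEq Ω]
variable {m r : ℕ} {T : Finset Ω} {c : G}

theorem q4_of [FaithfulSMul G Ω] (h4 : IsMultiplyPretransitive G Ω 4) {a b c d : Ω} (hd : D4 a b c d)
    (hF : ∃ H : Subgroup ↥(stabilizer G a ⊓ stabilizer G b ⊓ stabilizer G c ⊓ stabilizer G d),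
      Cfsg.IsFrobeniusComplement H) : ∃ m, Q4 G Ω m := by
  have eX : stabilizer G a ⊓ stabilizer G b ⊓ stabilizer G c ⊓ stabilizer G d = HH G {a, b, c, d} :=
    Subgroup.ext fun x => by simp only [mem_HH4, Subgroup.mem_inf, mem_stabilizer_iff, and_assoc]
  rw [eX] at hF
  obtain ⟨C, hC⟩ := hF
  obtain ⟨m, N, mem, nil, cen, nb, nt⟩ := End.frob hC
  have tr : ∀ ⦃a b c d a' b' c' d' : Ω⦄, D4 a b c d → D4 a' b' c' d' →
      ∃ g : G, g • a = a' ∧ g • b = b' ∧ g • c = c' ∧ g • d = d' := fun a b c d a' b' c' d' h h' => by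
    have inj : ∀ {a b c d : Ω}, D4 a b c d → Function.Injective ![a, b, c, d] := fun h i j e => by
      fin_cases i <;> fin_cases j <;>
        simp_all [h.ab, h.ac, h.ad, h.bc, h.bd, h.cd, h.ab.symm, h.ac.symm, h.ad.symm, h.bc.symm, h.bd.symm,
          h.cd.symm]
    obtain ⟨g, e⟩ := H26.multi_iff_fun.1 h4 _ _ (inj h) (inj h')
    exact ⟨g, e 0, e 1, e 2, e 3⟩
  have mv : ∀ T : Finset Ω, T.card = 4 → ∃ f : HH G {a, b, c, d} →* G, Function.Injective f ∧
      ∀ x, x ∈ HH G T ↔ ∃ y, f y = x := fun T hT => by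
    obtain ⟨a', b', c', d', h', rfl⟩ := exists_D4 hT
    obtain ⟨g, e1, e2, e3, e4⟩ := tr hd h'
    have e : g • ({a, b, c, d} : Finset Ω) = {a', b', c', d'} := by rw [smul4, e1, e2, e3, e4]
    refine ⟨(MulAut.conj g).toMonoidHom.comp (Subgroup.subtype _),
      (MulAut.conj g).injective.comp Subtype.val_injective, fun x => ⟨fun hx => ?_, ?_⟩⟩
    · have := conj_HH_smul g⁻¹ hx
      rw [← e, inv_smul_smul] at this
      exact ⟨⟨_, this⟩, by simp [mul_assoc]⟩
    · rintro ⟨y, rfl⟩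
      exact e ▸ conj_HH_smul g y.2
  refine ⟨m, tr, fun g e => eq_of_smul_eq_smul (α := Ω) fun a => by rw [e, one_smul], fun T hT => ?_,
    fun T hT => ?_, fun T hT => ?_, fun T hT => ?_, _, _, _, _, hd⟩ <;> obtain ⟨f, fi, hf⟩ := mv T hT
  · refine ⟨N.map f, fun x => ⟨?_, fun hx => ?_⟩, nilpotent_of_mulEquiv (N.equivMapOfInjective f fi)⟩
    · rintro ⟨y, hy, rfl⟩
      exact ⟨(hf _).2 ⟨y, rfl⟩, orderOf_injective f fi y ▸ (mem y).1 hy⟩
    · obtain ⟨y, rfl⟩ := (hf x).1 hx.1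
      exact mem_map_of_mem f ((mem y).2 (orderOf_injective f fi y ▸ hx.2))
  · intro x hx y hy x1 cx e
    obtain ⟨x, rfl⟩ := (hf x).1 hx
    obtain ⟨y, rfl⟩ := (hf y).1 hy
    rw [orderOf_injective f fi] at cx ⊢
    exact (mem y).1 (cen x ((mem x).2 cx) (fun e => x1 (e ▸ map_one f)) y (fi (by simpa using e.eq)))
  · obtain ⟨⟨x, hx⟩, x1⟩ := ne_bot_iff_exists_ne_one.1 nb
    exact ⟨f x, (hf _).2 ⟨x, rfl⟩, fun e => x1 (Subtype.ext (fi (e.trans (map_one f).symm))),
      orderOf_injective f fi x ▸ (mem x).1 hx⟩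
  · obtain ⟨x, hx⟩ : ∃ x, x ∉ N := by
      by_contra! n
      exact nt (eq_top_iff.2 fun x _ => n x)
    exact ⟨f x, (hf _).2 ⟨x, rfl⟩, fun e => hx ((mem x).2 (orderOf_injective f fi x ▸ e))⟩

theorem Q4.m23 (h : Q4 G Ω m) (hm : ¬ 2 ∣ m) (hn : Fintype.card Ω = 23) : Cfsg.Spor.IsoM23 G := by
  have f7 : ∀ T : Finset Ω, T.card = 4 → (FF G 2 T).card = 7 := fun T h4 => by
    have := h.mod_FF hm h4
    rw [hn] at this
    rcases h.blk hm h4 with ⟨e | e, -⟩ | ⟨e, -⟩
    exacts [absurd (e ▸ this) (by decide), absurd (e ▸ this) (by decide), e]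
  let B : Set (Finset Ω) := {b | ∃ T : Finset Ω, T.card = 4 ∧ FF G 2 T = b}
  have hB : Cfsg.IsSteinerSystem 4 7 B := ⟨fun b ⟨T, h4, e⟩ => e ▸ f7 T h4, fun s hs =>
    ⟨_, ⟨⟨s, hs, rfl⟩, sub_FF⟩, fun b ⟨⟨T, h4, e⟩, hb⟩ => e ▸ (h.FF_eq hm h4 hs (e ▸ hb)).symm⟩⟩
  have pr : ∀ g : G, ∀ b ∈ B, g • b ∈ B := fun g b ⟨T, h4, e⟩ =>
    ⟨g • T, (card_smul_finset g T).trans h4, e ▸ FF_smul g⟩
  have mem : ∀ g : G, toPermHom G Ω g ∈ Cfsg.setSystemAut B := fun g => Set.Subset.antisymm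
    (by rintro _ ⟨b, hb, rfl⟩; exact pr g b hb) fun b hb => ⟨g⁻¹ • b, pr _ b hb, smul_inv_smul g b⟩
  let φ := (toPermHom G Ω).codRestrict _ mem
  have φi : Function.Injective φ := fun x y e => h.inj (congrArg Subtype.val e)
  obtain ⟨⟨hs, hc⟩, -⟩ := Cfsg.Agent.S0413.result hn hB
  obtain ⟨T, h4⟩ := h.exT
  have mt : IsMultiplyPretransitive G Ω (T : Set Ω).ncard := by
    rw [Set.ncard_coe_finset, h4]
    refine H26.multi_iff_fun.2 fun x y hx hy => ?_
    have d : ∀ {x : Fin 4 → Ω}, Function.Injective x → D4 (x 0) (x 1) (x 2) (x 3) := fun i =>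
      ⟨i.ne (by decide), i.ne (by decide), i.ne (by decide), i.ne (by decide), i.ne (by decide), i.ne (by decide)⟩
    obtain ⟨g, e1, e2, e3, e4⟩ := h.tr (d hx) (d hy)
    exact ⟨g, fun i => by fin_cases i <;> assumption⟩
  have i1 := mt.index_of_fixingSubgroup_eq
  rw [Set.ncard_coe_finset, h4, Nat.card_eq_fintype_card, hn,
    show fixingSubgroup G (T : Set Ω) = HH G T from Subgroup.ext fun x => mem_fixingSubgroup_iff G] at i1
  have i2 := (HH G T).card_mul_index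
  have i3 := φ.range.card_mul_index
  rw [← Nat.card_congr (MonoidHom.ofInjective φi).toEquiv, hc, ← i2, i1] at i3
  have i4 : 3 ≤ Nat.card (HH G T) := by
    obtain ⟨x, hx, y, hy, n⟩ := h.not_comm h4
    have := Fintype.ofFinite (HH G T)
    rw [Nat.card_eq_fintype_card]
    refine Fintype.two_lt_card_iff.2 ⟨1, ⟨x, hx⟩, ⟨y, hy⟩, fun e => n ?_, fun e => n ?_, fun e => n ?_⟩
    · rw [← show (1 : G) = x from congrArg Subtype.val e]; exact Commute.one_left y
    · rw [← show (1 : G) = y from congrArg Subtype.val e]; exact Commute.one_right x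
    · rw [show x = y from congrArg Subtype.val e]
  have top : φ.range = ⊤ := End.eq_top_of_index (p := 23) (by norm_num) (by rw [hc]; norm_num) (by
    simp only [Nat.choose, Nat.factorial] at i3
    nlinarith)
  obtain ⟨-, -, -, ψ, -⟩ := H17.aut23 hn hB
  exact ⟨(MulEquiv.ofBijective φ ⟨φi, MonoidHom.range_eq_top.1 top⟩).trans ψ.symm⟩

end H41.Q4
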