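import Mathlib
import Cfsg.Agent.Base
import Cfsg.Agent.Lib.Quad4.T0

/-! Four-fold transitive groups: the Frobenius kernel has order prime to three. -/

set_option autoImplicit false
set_option linter.style.haveILetI false
set_option linter.unusedSectionVars false
set_option linter.unusedVariables false

namespace H41.Q4

open Subgroup MulAction H69 Finset
open scoped Pointwise

variable {G Ω : Type*} [Group G] [Finite G] [MulAction G Ω] [Fintype Ω] [DecidableEq Ω]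
variable {m r : ℕ} {T : Finset Ω} {c : G}

namespace K3A

/-- the action on an invariant set -/
abbrev pi (G : Type*) [Group G] [MulAction G Ω] (S : Finset Ω) :
    SS G S →* Equiv.Perm (sma (SS G S) S le_rfl) := toPermHom (SS G S) (sma (SS G S) S le_rfl)

theorem pi_eq {S : Finset Ω} {x y : SS G S} : pi G S x = pi G S y ↔ ∀ z ∈ S, x.1 • z = y.1 • z :=
  ⟨fun h z hz => congrArg Subtype.val (DFunLike.congr_fun h (⟨z, hz⟩ : sma (SS G S) S le_rfl)),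
    fun h => Equiv.ext fun z => Subtype.ext (h z.1 z.2)⟩

theorem pi_one {S : Finset Ω} {x : SS G S} : pi G S x = 1 ↔ x.1 ∈ HH G S := by
  rw [← map_one (pi G S), pi_eq]
  exact forall₂_congr fun z _ => by rw [OneMemClass.coe_one, one_smul]

theorem pi_norm {S : Finset Ω} {P : Subgroup G} {x : SS G S} (h : x.1 ∈ 𝐍(P)) :
    pi G S x ∈ 𝐍((P.subgroupOf (SS G S)).map (pi G S)) := mem_normalizer_fintype (by
  rintro _ ⟨y, hy, rfl⟩
  exact ⟨x * y * x⁻¹, (conj_mem_of_mem_normalizer h hy : x.1 * y.1 * x.1⁻¹ ∈ P), by rw [map_mul, map_mul, map_inv]⟩)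

theorem inv3 {X : Type*} [Group X] {N : Subgroup X} {ρ σ : X} (h : ∀ n ∈ N, ρ * n * ρ⁻¹ = n⁻¹)
    (hσ : σ ∈ 𝐍(N)) (h3 : σ ^ 3 = 1) {n : X} (hn : n ∈ N) : (ρ * σ) ^ 3 * n * ((ρ * σ) ^ 3)⁻¹ = n⁻¹ := by
  have k : ∀ n ∈ N, ρ * σ * n * (ρ * σ)⁻¹ = σ * n⁻¹ * σ⁻¹ := fun n hn => by
    rw [← conj_inv, ← h _ (conj_mem_of_mem_normalizer hσ hn)]; group
  have h1 := conj_mem_of_mem_normalizer hσ (inv_mem hn)
  have h2 := conj_mem_of_mem_normalizer hσ (inv_mem h1)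
  calc _ = ρ * σ * (ρ * σ * (ρ * σ * n * (ρ * σ)⁻¹) * (ρ * σ)⁻¹) * (ρ * σ)⁻¹ := by rw [pow_three]; group
    _ = σ ^ 3 * n⁻¹ * (σ ^ 3)⁻¹ := by
      rw [k n hn, k _ h1, k _ h2, pow_three]; simp only [mul_inv_rev, inv_inv, mul_assoc]
    _ = _ := by rw [h3]; group

theorem dbl {a β : G} {x y w s : Ω} (d : D4 x y w s) (b1 : β • x = y) (b2 : β • y = w) (b3 : β • w = x)
    (b4 : β • s = s) (ha : a ∈ SS G {x, y, w, s})
    (h2 : ∀ z ∈ ({x, y, w, s} : Finset Ω), a • a • z = z ∧ a • z ≠ z) : (a * β) ^ 3 ∈ HH G {x, y, w, s} := by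
  have m1 := (ha x).2 (by simp)
  have m2 := (ha y).2 (by simp)
  have m3 := (ha w).2 (by simp)
  obtain ⟨x1, x2⟩ := h2 x (by simp)
  obtain ⟨y1, y2⟩ := h2 y (by simp)
  obtain ⟨w1, w2⟩ := h2 w (by simp)
  obtain ⟨d1, d2, d3, d4, d5, d6⟩ := d
  simp only [mem_insert, mem_singleton] at m1 m2 m3
  simp only [mem_HH4, pow_three, mul_smul]
  grind

theorem HH_le (h : Q4 G Ω m) (hm : ¬ 2 ∣ m) (h3 : ¬ 3 ∣ m) (h4 : T.card = 4) :
    ((FF G 2 T).card = 4 ∨ (FF G 2 T).card = 6) ∧ HH G T ≤ HH G (FF G 2 T) := by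
  refine (h.blk hm h4).resolve_right fun ⟨h7, w, hw, hw'⟩ => hw' ?_
  have k : ∀ y ∈ HH G T, ¬ (orderOf y).Coprime m → y ∈ HH G (FF G 2 T) := fun y hy hy' => by
    have n : ∀ p, p.Prime → ¬ p ∣ m → (orderOf y).Coprime p := fun p hp hpm =>
      ((Nat.Prime.coprime_iff_not_dvd hp).2 fun d => by
        have o := orderOf_pow_orderOf_div (orderOf_pos y).ne' d
        exact h.pow h4 hy hy' (npow_mem_zpowers y _) (fun e => hp.ne_one (by rw [← o, e, orderOf_one]))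
          (o.symm ▸ (Nat.Prime.coprime_iff_not_dvd hp).2 hpm)).symm
    refine HH_of_sdiff hy (fix_of_cop (SS_sdiff (SS_FF (HH_le_SS hy)) (HH_le_SS hy)) ?_)
    rw [card_sdiff_of_subset sub_FF, h7, h4]
    exact (n 2 Nat.prime_two hm).mul_right (n 3 Nat.prime_three h3)
  by_cases e : (orderOf w).Coprime m
  · obtain ⟨c, hc, r, g⟩ := h.exists_gd' h4
    obtain ⟨u, hu, rfl⟩ := h.surj h4 hc g.ncop le_rfl (h.norm_KK h4 (HH_le_SS hc)) ((h.mem_KK h4).2 ⟨hw, e⟩)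
    exact mul_mem (conj_HH (SS_FF (HH_le_SS (KK_le hu))) (k c hc g.ncop)) (inv_mem (k c hc g.ncop))
  · exact k w hw e

/-- the fixed point set of a maximal subgroup fixing more than a block -/
structure Cf (G : Type*) [Group G] [MulAction G Ω] (m : ℕ) (S : Finset Ω) : Prop where
  ex : ∃ U ⊆ S, U.card = 4
  eq : ∀ U : Finset Ω, U.card = 4 → FF G 3 U = FF G 2 U
  sub : ∀ U ⊆ S, U.card = 4 → FF G 2 U ⊆ S
  star : ∀ U ⊆ S, U.card = 4 → ∀ k ∈ KK G m U, ∀ z ∈ S, z ∉ FF G 2 U → k • z = z → k ∈ HH G S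
  good : ∀ p, p = 2 ∨ p = 3 → ∀ U ⊆ S, U.card = 4 → ∃ t ∈ PP G p U, t ∈ SS G S ∧ t ∉ HH G S ∧ t ^ p ∈ HH G S

theorem exists_cf (h : Q4 G Ω m) (hm : ¬ 2 ∣ m) (h3 : ¬ 3 ∣ m) (h4 : T.card = 4)
    (hF : FF G 3 T ⊆ FF G 2 T) : ∃ S : Finset Ω, Cf G m S := by
  have eq : ∀ U : Finset Ω, U.card = 4 → FF G 3 U = FF G 2 U := fun U hU => by
    refine Subset.antisymm ?_ (le_HH_iff.1 (PP_le.trans (HH_le h hm h3 hU).2))
    obtain ⟨g, rfl⟩ := h.trT h4 hU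
    rw [FF_smul, FF_smul]
    exact smul_finset_subset_smul_finset hF
  obtain ⟨D, ⟨d1, d2⟩, mx⟩ := (Set.toFinite {D : Subgroup G | (∀ x ∈ D, (orderOf x).Coprime m) ∧
      (FF G 2 T).card < (fx Ω D).card}).exists_maximal ⟨⊥, fun x hx => by simp [mem_bot.1 hx], by
    refine card_lt_card ⟨fun a _ => mem_fx.2 fun x hx => by rw [mem_bot.1 hx, one_smul], fun e => ?_⟩
    obtain ⟨t, ht, -, t1⟩ := h.PP_inv hm h4
    exact t1 (h.faith t fun a => PP_le_FF ht a (e (mem_fx.2 fun x hx => by rw [mem_bot.1 hx, one_smul])))⟩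
  have dK : ∀ U ⊆ fx Ω D, U.card = 4 → D ≤ KK G m U := fun U hU h4' x hx =>
    (h.mem_KK h4').2 ⟨le_HH_iff.2 hU hx, d1 x hx⟩
  have sub : ∀ U ⊆ fx Ω D, U.card = 4 → FF G 2 U ⊆ fx Ω D := fun U hU h4' =>
    le_HH_iff.1 ((le_HH_iff.2 hU).trans (HH_le h hm h3 h4').2)
  have star : ∀ U ⊆ fx Ω D, U.card = 4 → ∀ k ∈ KK G m U, ∀ z ∈ fx Ω D, z ∉ FF G 2 U → k • z = z → k ∈ D :=
    fun U hU h4' k hk z hz hz' e => mx (y := D ⊔ zpowers k) ⟨fun x hx =>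
      ((h.mem_KK h4').1 (sup_le (dK U hU h4') (zpowers_le.2 hk) hx)).2, by
      have : insert z (FF G 2 U) ⊆ fx Ω (D ⊔ zpowers k) := le_HH_iff.1 (sup_le
        (le_HH_iff.2 (insert_subset hz (sub U hU h4'))) (zpowers_le.2 (mem_HH_iff.2
          (insert_subset (mem_fe.2 e) (mem_HH_iff.1 ((HH_le h hm h3 h4').2 (KK_le hk)))))))
      have := card_le_card this
      rwa [card_insert_of_notMem hz', h.card_FF h4 h4'] at this⟩ le_sup_left (mem_sup_right (mem_zpowers k))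
  refine ⟨fx Ω D, exists_subset_card_eq (((h4 ▸ card_le_card sub_FF).trans d2.le)), eq, sub,
    fun U hU h4' k hk z hz hz' e => le_HH_iff.2 Subset.rfl (star U hU h4' k hk z hz hz' e),
    fun p hp U hU h4' => ?_⟩
  obtain ⟨hp1, hp2, hp3⟩ : Fact p.Prime ∧ ¬ p ∣ m ∧ FF G p U = FF G 2 U := by
    rcases hp with rfl | rfl
    exacts [⟨fact2, hm, rfl⟩, ⟨fact3, h3, eq U h4'⟩]
  obtain ⟨z, hz, hz'⟩ := exists_mem_notMem_of_card_lt_card ((h.card_FF h4 h4').trans_lt d2)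
  obtain ⟨t0, ⟨t1, t2⟩, t3⟩ := SetLike.exists_of_lt (lt_inf_normalizer_of_lt (h.pg_PP hp2 h4')
    (R := D ⊓ PP G p U) (lt_of_le_of_ne inf_le_right fun e => hz' (hp3 ▸ mem_fx.2 fun x hx =>
      mem_fx.1 hz x (inf_eq_right.1 e hx))))
  obtain ⟨k, hk⟩ := ((h.mem_PP hp2 h4').1 t1).2
  obtain ⟨j, j1, j2⟩ := exists_step (D := D) (fun e => t3 ⟨e, t1⟩) (hk ▸ one_mem D : t0 ^ p ^ k ∈ D)
  have n0 : t0 ∈ 𝐍(D) := mem_normalizer_fintype fun d hd => by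
    obtain ⟨u, hu, v, hv, rfl, u1, v1⟩ := decomp d p
    have hu := zpowers_le.2 hd hu
    have hv := zpowers_le.2 hd hv
    have c := h.comm h4' (h.PP_le_KK hp2 h4' t1) (dK U hU h4' hv) (Nat.Coprime.coprime_dvd_left
      (orderOf_dvd_of_pow_eq_one hk) (((Nat.Prime.coprime_iff_not_dvd hp1.out).2 v1).pow_left k))
    rw [← conj_mul, c.eq, mul_inv_cancel_right]
    exact mul_mem (conj_mem_of_mem_normalizer t2 ⟨hu, (h.mem_PP hp2 h4').2 ⟨le_HH_iff.2 hU hu, u1⟩⟩).1 hv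
  exact ⟨_, pow_mem t1 _, SS_of_normalizer (pow_mem n0 _), fun e => j1 (star U hU h4' _
    (h.PP_le_KK hp2 h4' (pow_mem t1 _)) z hz hz' (e z hz)), le_HH_iff.2 Subset.rfl j2⟩

theorem Cf.false (h : Q4 G Ω m) (hm : ¬ 2 ∣ m) (h3 : ¬ 3 ∣ m) {S : Finset Ω} (C : Cf G m S) : False := by
  have fix : ∀ U ⊆ S, U.card = 4 → ∀ t ∈ KK G m U, t ∉ HH G S → ∀ z ∈ S, t • z = z ↔ z ∈ FF G 2 U :=
    fun U hU h4 t ht t1 z hz => ⟨fun e => by_contra fun e' => t1 (C.star U hU h4 t ht z hz e' e),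
      (HH_le h hm h3 h4).2 (KK_le ht) z⟩
  have md : ∀ (p : ℕ) [Fact p.Prime], ¬ p ∣ m → ∀ U ⊆ S, U.card = 4 → ∀ t ∈ PP G p U, t ∉ HH G S → ∀ A ⊆ S,
      t ∈ SS G A → A.card ≡ (A ∩ FF G 2 U).card [MOD p] := fun p _ hp U hU h4 t ht t1 A hA t2 => by
    obtain ⟨k, hk⟩ := ((h.mem_PP hp h4).1 ht).2
    rw [show A ∩ FF G 2 U = A ∩ fe Ω t from Finset.ext fun z => by
      rw [mem_inter, mem_inter, mem_fe]
      exact and_congr_right fun hz => (fix U hU h4 t (h.PP_le_KK hp h4 ht) t1 z (hA hz)).symm]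
    exact card_modEq_fe hk t2
  obtain ⟨U0, s0, c0⟩ := C.ex
  obtain ⟨β, β1, β2, β3, β4⟩ := C.good 3 (.inr rfl) U0 s0 c0
  have fβ := fix U0 s0 c0 β (h.PP_le_KK h3 c0 β1) β3
  have big : (FF G 2 U0).card + 6 ≤ S.card := by
    obtain ⟨a, a1, a2, a3, -⟩ := C.good 2 (.inl rfl) U0 s0 c0
    have e1 := md 2 hm U0 s0 c0 a a1 a3 S Subset.rfl a2
    have e2 := md 3 h3 U0 s0 c0 β β1 β3 S Subset.rfl β2
    rw [inter_eq_right.2 (C.sub U0 s0 c0)] at e1 e2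
    have e3 : (FF G 2 U0).card < S.card := card_lt_card ⟨C.sub U0 s0 c0, fun e =>
      β3 fun z hz => (fβ z hz).2 (e hz)⟩
    unfold Nat.ModEq at e1 e2
    omega
  obtain ⟨x, xS, xF⟩ := exists_mem_notMem_of_card_lt_card (s := FF G 2 U0) (t := S) (by omega)
  obtain ⟨p, pU⟩ := card_pos.1 (c0 ▸ (by norm_num) : 0 < U0.card)
  have b3 : β • β • β • x = x := by simpa only [pow_three, mul_smul] using β4 x xS
  have n1 : β • x ≠ x := fun e => xF ((fβ x xS).1 e)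
  have n2 : β • β • x ≠ β • x := fun e => n1 (smul_left_cancel β e)
  have n3 : β • β • β • x ≠ β • β • x := fun e => n2 (smul_left_cancel β e)
  have d4 : ∀ s, β • s = s → D4 x (β • x) (β • β • x) s := fun s e =>
    ⟨n1.symm, fun e' => n3 (b3.trans e'), fun e' => n1 (e' ▸ e), n2.symm, fun e' => n2 (e' ▸ e), fun e' => n3 (e' ▸ e)⟩
  have pβ : β • p = p := PP_le β1 p pU
  have c1 := (d4 p pβ).card
  have s1 : ({x, β • x, β • β • x, p} : Finset Ω) ⊆ S := by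
    simp only [insert_subset_iff, singleton_subset_iff]
    exact ⟨xS, (β2 _).2 xS, (β2 _).2 ((β2 _).2 xS), s0 pU⟩
  have β5 : β ∈ SS G {x, β • x, β • β • x, p} := mem_SS_of (by simp [b3, pβ])
  have m1 : ∀ z ∈ ({x, β • x, β • β • x, p} : Finset Ω), z ∈ FF G 2 {x, β • x, β • β • x, p} :=
    fun z hz => sub_FF hz
  have xB := m1 x (by simp)
  have yB := m1 (β • x) (by simp)
  have wB := m1 (β • β • x) (by simp)
  have pB := m1 p (by simp)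
  generalize ({x, β • x, β • β • x, p} : Finset Ω) = T' at c1 s1 β5 xB yB wB pB
  obtain ⟨a', a1, a2, a3, a4⟩ := C.good 2 (.inl rfl) T' s1 c1
  have fa := fix T' s1 c1 a' (h.PP_le_KK hm c1 a1) a3
  have aa : ∀ z ∈ S, a' • a' • z = z := fun z hz => by simpa only [pow_two, mul_smul] using a4 z hz
  have cB := h.card_FF (p := 2) c0 c1
  have out : ∀ z ∈ S \ FF G 2 T', a' • z ∈ S \ FF G 2 T' ∧ a' • z ≠ z := fun z hz =>
    ⟨(SS_sdiff a2 (SS_FF (HH_le_SS (PP_le a1))) z).2 hz,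
      fun e => (mem_sdiff.1 hz).2 ((fa z (mem_sdiff.1 hz).1).1 e)⟩
  have co : 6 ≤ (S \ FF G 2 T').card := by rw [card_sdiff_of_subset (C.sub T' s1 c1)]; omega
  obtain ⟨z, hz⟩ := card_pos.1 (by omega : 0 < (S \ FF G 2 T').card)
  obtain ⟨U, s2, c2, a5, u1, u2⟩ : ∃ U ⊆ S, U.card = 4 ∧ a' ∈ SS G U ∧
      (∀ v ∈ FF G 2 U ∩ FF G 2 T', β • v = v) ∧ (FF G 2 U ∩ FF G 2 T').card + 4 = (FF G 2 U0).card := by
    obtain ⟨z1, z2⟩ := out z hz
    rcases (HH_le h hm h3 c0).1 with f | f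
    · obtain ⟨u, hu, hu'⟩ := exists_mem_notMem_of_card_lt_card (s := {z, a' • z}) (t := S \ FF G 2 T')
        (card_le_two.trans_lt (by omega))
      obtain ⟨v1, v2⟩ := out u hu
      simp only [mem_insert, mem_singleton, not_or] at hu'
      have c2 : ({z, a' • z, u, a' • u} : Finset Ω).card = 4 := D4.card ⟨z2.symm, Ne.symm hu'.1, fun e =>
        hu'.2 (by rw [e, aa u (mem_sdiff.1 hu).1]), Ne.symm hu'.2, fun e => hu'.1 (smul_left_cancel a' e).symm,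
        v2.symm⟩
      have s2 : ({z, a' • z, u, a' • u} : Finset Ω) ⊆ S \ FF G 2 T' := by
        simp only [insert_subset_iff, singleton_subset_iff]; exact ⟨hz, z1, hu, v1⟩
      have e : FF G 2 {z, a' • z, u, a' • u} ∩ FF G 2 T' = ∅ := by
        rw [← eq_of_subset_of_card_le (sub_FF (G := G) (p := 2)) (by rw [h.card_FF c0 c2, f, c2])]
        exact disjoint_iff_inter_eq_empty.1 (sdiff_disjoint.mono_left s2)
      exact ⟨_, s2.trans sdiff_subset, c2, mem_SS_of (by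
        simp [aa z (mem_sdiff.1 hz).1, aa u (mem_sdiff.1 hu).1]), by simp [e], by simp [e, f]⟩
    · have e1 := md 3 h3 U0 s0 c0 β β1 β3 _ (C.sub T' s1 c1) (SS_FF β5)
      have e2 := card_pos.2 ⟨p, mem_inter.2 ⟨pB, sub_FF (G := G) (p := 2) pU⟩⟩
      obtain ⟨u, hu, v, hv, uv⟩ := one_lt_card.1 (show 1 < (FF G 2 T' ∩ FF G 2 U0).card by
        unfold Nat.ModEq at e1; omega)
      obtain ⟨u1, u2⟩ := mem_inter.1 hu
      obtain ⟨v1, v2⟩ := mem_inter.1 hv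
      have ne : ∀ {y y'}, y ∈ S \ FF G 2 T' → y' ∈ FF G 2 T' → y ≠ y' := fun a b e => (mem_sdiff.1 a).2 (e ▸ b)
      have c2 : ({z, a' • z, u, v} : Finset Ω).card = 4 :=
        D4.card ⟨z2.symm, ne hz u1, ne hz v1, ne z1 u1, ne z1 v1, uv⟩
      have s2 : ({z, a' • z, u, v} : Finset Ω) ⊆ S := by
        simp only [insert_subset_iff, singleton_subset_iff]
        exact ⟨(mem_sdiff.1 hz).1, (mem_sdiff.1 z1).1, C.sub T' s1 c1 u1, C.sub T' s1 c1 v1⟩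
      have a5 : a' ∈ SS G {z, a' • z, u, v} := mem_SS_of (by
        simp [aa z (mem_sdiff.1 hz).1, (fa u (C.sub T' s1 c1 u1)).2 u1, (fa v (C.sub T' s1 c1 v1)).2 v1])
      have e3 := md 2 hm T' s1 c1 a' a1 a3 _ (C.sub _ s2 c2) (SS_FF a5)
      have e4 := h.FF_inter hm c1 c2 (sub_FF (mem_insert_self ..)) (mem_sdiff.1 hz).2
      have s3 : ({u, v} : Finset Ω) ⊆ FF G 2 {z, a' • z, u, v} ∩ FF G 2 T' := by
        simp only [insert_subset_iff, singleton_subset_iff, mem_inter]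
        exact ⟨⟨sub_FF (by simp), u1⟩, sub_FF (by simp), v1⟩
      have e5 := card_le_card s3
      rw [card_pair uv] at e5
      rw [h.card_FF c0 c2, f] at e3
      have e6 : (FF G 2 {z, a' • z, u, v} ∩ FF G 2 T').card = 2 := by unfold Nat.ModEq at e3; omega
      refine ⟨_, s2, c2, a5, fun y hy => ?_, by rw [e6, f]⟩
      rw [← eq_of_subset_of_card_le s3 (by rw [e6, card_pair uv])] at hy
      rcases mem_insert.1 hy with rfl | hy
      · exact (fβ _ (C.sub U0 s0 c0 u2)).2 u2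
      · rw [mem_singleton.1 hy]; exact (fβ _ (C.sub U0 s0 c0 v2)).2 v2
  obtain ⟨t, t1, t2, t3, t4⟩ := C.good 2 (.inl rfl) U s2 c2
  obtain ⟨_, ⟨⟨a, aS⟩, aP, rfl⟩, o, cm⟩ := exists_cent (p := 2) (k := 1) (x := pi G S ⟨a', a2⟩)
    (by rw [← map_pow, pi_one]; exact a4) (pi_norm (P := PP G 2 U) (norm_PP a5)) 
      ((orderOf_eq_prime (p := 2) (x := pi G S ⟨t, t2⟩) (by rw [← map_pow, pi_one]; exact t4)
        fun e => t3 (pi_one.1 e)).symm.dvd.trans (orderOf_dvd_natCard _ ⟨_, t1, rfl⟩))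
  have aP : a ∈ PP G 2 U := aP
  have aE : a ∉ HH G S := fun e => by rw [(pi_one (x := ⟨a, aS⟩)).2 e, orderOf_one] at o; omega
  have a22 : pi G S ⟨a, aS⟩ * pi G S ⟨a, aS⟩ = 1 := by rw [← pow_two, ← o, pow_orderOf_eq_one]
  have fA := fix U s2 c2 a (h.PP_le_KK hm c2 aP) aE
  have inv : ∀ {g k : G} {A : Finset Ω} (hg : g ∈ SS G S) (hk : k ∈ SS G S), A ⊆ S →
      Commute (pi G S ⟨k, hk⟩) (pi G S ⟨g, hg⟩) → (∀ z ∈ S, k • z = z ↔ z ∈ A) → g ∈ SS G A :=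
    fun {g k A} hg hk hA cm f => mem_SS_of fun z hz => (f _ ((hg z).2 (hA hz))).1 (by
      have := pi_eq.1 ((map_mul _ _ _).trans (cm.eq.trans (map_mul _ _ _).symm)) z (hA hz)
      simp only [Subgroup.coe_mul, mul_smul] at this
      rw [this, (f z (hA hz)).2 hz])
  have aA : a ∈ SS G (FF G 2 T' \ FF G 2 U) :=
    SS_sdiff (inv aS a2 (C.sub T' s1 c1) cm fa) (SS_FF (HH_le_SS (PP_le aP)))
  have βA : β ∈ SS G (FF G 2 T' \ FF G 2 U) := by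
    rw [← sdiff_inter_self_right]
    exact SS_sdiff (SS_FF β5) (HH_le_SS u1)
  have cA : (FF G 2 T' \ FF G 2 U).card = 4 := by
    have := card_sdiff_add_card_inter (FF G 2 T') (FF G 2 U)
    rw [inter_comm] at this; omega
  have cA' : (FF G 2 U \ FF G 2 T').card = 4 := by
    have := card_sdiff_add_card_inter (FF G 2 U) (FF G 2 T')
    rw [h.card_FF c0 c2] at this; omega
  obtain ⟨kβ, hkβ⟩ := ((h.mem_PP h3 c0).1 β1).2
  obtain ⟨s, sA, sβ⟩ := exists_fix_elt hkβ βA (by rw [cA]; decide)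
  have xA : x ∈ FF G 2 T' \ FF G 2 U := mem_sdiff.2 ⟨xB, fun e => n1 (u1 x (mem_inter.2 ⟨e, xB⟩))⟩
  have eA : {x, β • x, β • β • x, s} = FF G 2 T' \ FF G 2 U := eq_of_subset_of_card_le (by
    simp only [insert_subset_iff, singleton_subset_iff]
    exact ⟨xA, (βA _).2 xA, (βA _).2 ((βA _).2 xA), sA⟩) (by rw [cA, (d4 s sβ).card])
  have g1 : (a * β) ^ 3 ∈ HH G (FF G 2 T' \ FF G 2 U) := by
    rw [← eA] at aA ⊢
    refine dbl (d4 s sβ) rfl rfl b3 sβ aA fun y hy => ?_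
    rw [eA] at hy
    have yS := C.sub T' s1 c1 (mem_sdiff.1 hy).1
    exact ⟨by simpa only [Subgroup.coe_mul, mul_smul] using pi_one.1 ((map_mul _ _ _).trans a22) y yS,
      fun e => (mem_sdiff.1 hy).2 ((fA y yS).1 e)⟩
  have e3 := h.PP_eq h3 c1 cA (C.eq T' c1 ▸ sdiff_subset)
  have e2 := h.PP_eq hm c1 cA sdiff_subset
  have iv : ∀ n ∈ ((PP G 3 T').subgroupOf (SS G S)).map (pi G S),
      pi G S ⟨a, aS⟩ * n * (pi G S ⟨a, aS⟩)⁻¹ = n⁻¹ := fun n hn =>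
    inv_of (pi_norm (e3 ▸ norm_PP aA)) (by
      rintro _ ⟨⟨b, bS⟩, bP, rfl⟩ cb
      have bP : b ∈ PP G 3 T' := bP
      obtain ⟨kb, hkb⟩ := ((h.mem_PP h3 c1).1 bP).2
      obtain ⟨y, hy, e⟩ := exists_fix_elt hkb (SS_sdiff (inv bS aS (C.sub U s2 c2) cb.symm fA)
        (SS_FF (HH_le_SS (PP_le bP)))) (by rw [cA']; decide)
      exact pi_one.2 (C.star T' s1 c1 b (h.PP_le_KK h3 c1 bP) y (C.sub U s2 c2 (mem_sdiff.1 hy).1)
        (mem_sdiff.1 hy).2 e)) a22 hn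
  obtain ⟨b, b1, b2, b3', b4⟩ := C.good 3 (.inr rfl) T' s1 c1
  have i3 := inv3 iv (σ := pi G S ⟨β, β2⟩) (pi_norm (norm_PP β5)) (by rw [← map_pow, pi_one]; exact β4)
    (n := pi G S ⟨b, b2⟩) ⟨_, b1, rfl⟩
  obtain ⟨j, i, hi⟩ := ppart ((a * β) ^ 3) 2 1
  obtain ⟨kb, hkb⟩ := ((h.mem_PP h3 c1).1 b1).2
  have cb := h.comm c1 (h.PP_le_KK hm c1 (e2 ▸ (h.mem_PP hm cA).2 ⟨mul_mem g1 (pow_mem (pow_mem g1 _) j), i, hi⟩))
    (h.PP_le_KK h3 c1 b1) (Nat.Coprime.coprime_dvd_left (orderOf_dvd_of_pow_eq_one hi)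
      (Nat.Coprime.coprime_dvd_right (orderOf_dvd_of_pow_eq_one hkb) (Nat.Coprime.pow _ _ (by decide))))
  have cb' : Commute ((⟨a, aS⟩ * ⟨β, β2⟩ : SS G S) ^ 3 * (((⟨a, aS⟩ * ⟨β, β2⟩ : SS G S) ^ 3) ^ 2 ^ 1) ^ j)
    ⟨b, b2⟩ := Subtype.ext cb.eq
  have cb'' := cb'.map (pi G S)
  simp only [map_mul, map_pow] at cb''
  have o3 : pi G S ⟨b, b2⟩ ^ 3 = 1 := by rw [← map_pow, pi_one]; exact b4
  refine b3' ((pi_one (x := ⟨b, b2⟩)).1 (eq_one_of_pows (a := 2) (by decide) ?_ o3))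
  generalize (pi G S ⟨a, aS⟩ * pi G S ⟨β, β2⟩) ^ 3 = γ at i3 cb''
  generalize pi G S ⟨b, b2⟩ = n at i3 cb''
  have c2' : Commute (γ ^ 2 ^ 1) n := by
    rw [pow_one, pow_two]
    refine mul_inv_eq_iff_eq_mul.1 ?_
    calc _ = γ * (γ * n * γ⁻¹) * γ⁻¹ := by group
      _ = n := by rw [i3, ← conj_inv, i3, inv_inv]
  have c3 := cb''.mul_left (c2'.pow_left j).inv_left
  rw [mul_inv_cancel_right] at c3
  rw [c3.eq, mul_inv_cancel_right] at i3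
  rw [pow_two]
  exact mul_eq_one_iff_eq_inv.2 i3

end K3A

theorem Q4.k3 (h : Q4 G Ω m) (hm : ¬ 2 ∣ m) (h3 : ¬ 3 ∣ m) (h4 : T.card = 4)
    (hx : ∃ x ∈ HH G T, x ≠ 1 ∧ x ^ 3 = 1) (hF : FF G 3 T ⊆ FF G 2 T) : False :=
  let ⟨_, C⟩ := K3A.exists_cf h hm h3 h4 hF
  C.false h hm h3

end H41.Q4
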