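import Mathlib
import Cfsg.Agent.Base
import Cfsg.Agent.Lib.Quad4.T0
import Cfsg.Prelude.Def_Solvable
import Cfsg.Prelude.Def_Spor_Mathieu

/-! The block of the prime three lies in the block of the prime two (helper70). -/

set_option autoImplicit false
set_option linter.style.haveILetI false
set_option linter.unusedSectionVars false

namespace H41.Q4

open Subgroup MulAction H69 Finset
open scoped Pointwise

variable {G Ω : Type*} [Group G] [Finite G] [MulAction G Ω] [Fintype Ω] [DecidableEq Ω]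
variable {m r : ℕ} {T : Finset Ω} {c : G}

theorem Q4.F3_sub (h : Q4 G Ω m) (hm : ¬ 2 ∣ m) (h3 : ¬ 3 ∣ m) (h4 : T.card = 4)
    (no3 : Q4 (toPermHom (SS G (FF G 3 T)) (sma (SS G (FF G 3 T)) (FF G 3 T) le_rfl)).range
        (sma (SS G (FF G 3 T)) (FF G 3 T) le_rfl) m →
      ∀ U : Finset (sma (SS G (FF G 3 T)) (FF G 3 T) le_rfl), U.card = 4 →
        ∃ x ∈ HH (toPermHom (SS G (FF G 3 T)) (sma (SS G (FF G 3 T)) (FF G 3 T) le_rfl)).range U,
          x ≠ 1 ∧ x ^ 3 = 1) : FF G 3 T ⊆ FF G 2 T := by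
  classical
  by_contra hn
  have tr := h.tr4_FF h3 h4
  have hE : ∀ U ⊆ FF G 3 T, U.card = 4 → FF G 3 U = FF G 3 T := fun U hU k => h.FF_eq h3 h4 k hU
  have hT : T ⊆ FF G 3 T := sub_FF
  generalize FF G 3 T = Φ at *
  obtain ⟨a, b, c, d, hd, rfl⟩ := exists_D4 h4
  simp only [insert_subset_iff, singleton_subset_iff] at hT
  have hA : ∀ U ⊆ Φ, U.card = 4 → ∃ s ∈ PP G 2 U, s ∉ HH G Φ := fun U hU k => by
    obtain ⟨a', b', c', d', hd', rfl⟩ := exists_D4 k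
    simp only [insert_subset_iff, singleton_subset_iff] at hU
    obtain ⟨g, hg, rfl, rfl, rfl, rfl⟩ := tr hd hd' hT.1 hT.2.1 hT.2.2.1 hT.2.2.2 hU.1 hU.2.1 hU.2.2.1 hU.2.2.2
    obtain ⟨s, hs, s1⟩ := SetLike.not_le_iff_exists.1 fun e => hn (le_HH_iff.1 e)
    refine ⟨g * s * g⁻¹, by rw [← smul4, PP_smul]; exact cj_mem g hs, fun e => s1 ?_⟩
    simpa [mul_assoc] using conj_HH (inv_mem hg) e
  have hB : ∀ U ⊆ Φ, U.card = 4 → HH G U ≤ SS G Φ := fun U hU k x hx =>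
    hE U hU k ▸ SS_FF (HH_le_SS hx)
  have hC : ∀ y ∈ HH G Φ, (orderOf y).Coprime m := fun y hy => by
    have hU : ({a, b, c, d} : Finset Ω) ⊆ Φ := by simp only [insert_subset_iff, singleton_subset_iff, hT, and_self]
    obtain ⟨s, hs, s1⟩ := hA _ hU h4
    by_contra hy'
    obtain ⟨u, hu, rfl⟩ := h.surj h4 (HH_mono hU hy) hy' (h.PP_le_KK hm h4)
      (norm_PP (HH_le_SS (HH_mono hU hy))) hs
    exact s1 (mul_mem (conj_HH (hB _ hU h4 (PP_le hu)) hy) (inv_mem hy))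
  let X := sma (SS G Φ) Φ le_rfl
  let π := (toPermHom (SS G Φ) X).rangeRestrict
  let ι : X ↪ Ω := ⟨Subtype.val, Subtype.val_injective⟩
  have su : Function.Surjective π := MonoidHom.rangeRestrict_surjective _
  have m1 : ∀ w, π w = 1 ↔ w.1 ∈ HH G Φ := fun w =>
    ⟨fun e y hy => congrArg Subtype.val (DFunLike.congr_fun (congrArg Subtype.val e) (⟨y, hy⟩ : X)),
      fun e => Subtype.ext (Equiv.ext fun y => Subtype.ext (e y.1 y.2))⟩
  have mH : ∀ (U : Finset X) w, π w ∈ HH _ U ↔ w.1 ∈ HH G (U.map ι) := fun U w =>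
    ⟨fun e y hy => by
      obtain ⟨z, hz, rfl⟩ := Finset.mem_map.1 hy
      exact congrArg Subtype.val (e z hz), fun e z hz => Subtype.ext (e _ (mem_map_of_mem ι hz))⟩
  have sU : ∀ U : Finset X, U.map ι ⊆ Φ := fun U y hy => by
    obtain ⟨z, -, rfl⟩ := Finset.mem_map.1 hy
    exact z.2
  have mO : ∀ w, (orderOf (π w)).Coprime m ↔ (orderOf w.1).Coprime m := fun w => by
    refine ⟨fun e => ?_, fun e => e.coprime_dvd_left (orderOf_coe w ▸ orderOf_map_dvd π w)⟩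
    have k := hC _ ((m1 (w ^ orderOf (π w))).1 (by rw [map_pow, pow_orderOf_eq_one]))
    refine (e.mul_left k).coprime_dvd_left (orderOf_dvd_of_pow_eq_one ?_)
    rw [pow_mul]
    exact pow_orderOf_eq_one _
  have Q : Q4 (toPermHom (SS G Φ) X).range X m := by
    have dv : ∀ {a b c d : X}, D4 a b c d → D4 a.1 b.1 c.1 d.1 := fun k =>
      ⟨ι.2.ne k.ab, ι.2.ne k.ac, ι.2.ne k.ad, ι.2.ne k.bc, ι.2.ne k.bd, ι.2.ne k.cd⟩
    refine ⟨fun a b c d a' b' c' d' k k' => ?_, fun g e => Subtype.ext (Equiv.ext e), fun U k => ?_,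
      fun U k x hx y hy x1 x2 hc => ?_, fun U k => ?_, fun U k => ?_,
      ⟨a, hT.1⟩, ⟨b, hT.2.1⟩, ⟨c, hT.2.2.1⟩, ⟨d, hT.2.2.2⟩, ?_⟩
    · obtain ⟨g, hg, k1, k2, k3, k4⟩ := tr (dv k) (dv k') a.2 b.2 c.2 d.2 a'.2 b'.2 c'.2 d'.2
      exact ⟨π ⟨g, hg⟩, Subtype.ext k1, Subtype.ext k2, Subtype.ext k3, Subtype.ext k4⟩
    · have k4 := (card_map ι).trans k
      haveI := h.nil k4
      refine ⟨(π.comp (inclusion ((KK_le (m := m)).trans (hB _ (sU U) k4)))).range, fun x => ⟨?_, ?_⟩,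
        nilpotent_of_surjective _ (MonoidHom.rangeRestrict_surjective _)⟩
      · rintro ⟨w, rfl⟩
        exact ⟨(mH U _).2 (KK_le w.2), (mO _).2 ((h.mem_KK k4).1 w.2).2⟩
      · obtain ⟨w, rfl⟩ := su x
        exact fun e => ⟨⟨w, (h.mem_KK k4).2 ⟨(mH U w).1 e.1, (mO w).1 e.2⟩⟩, rfl⟩
    · have k4 := (card_map ι).trans k
      obtain ⟨x, rfl⟩ := su x
      obtain ⟨y, rfl⟩ := su y
      rw [mH] at hx hy
      rw [mO] at x2 ⊢
      by_contra y1
      have hD : HH G Φ ≤ KK G m (U.map ι) := fun z hz => (h.mem_KK k4).2 ⟨HH_mono (sU U) hz, hC z hz⟩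
      obtain ⟨u, hu, e⟩ := h.surj k4 hy y1 hD (mem_normalizer_of_cj_le fun _ hz => by
        obtain ⟨z, hz', rfl⟩ := mem_cj'.1 hz
        exact conj_HH y.2 hz') ((m1 (x * y * x⁻¹ * y⁻¹)).1 (by
          rw [map_mul, map_mul, map_mul, hc.eq, map_inv, map_inv]; group))
      have e2 : u * y * u⁻¹ = x * y * (x : G)⁻¹ := mul_right_cancel e
      have := h.fpf k4 hy y1 (mul_mem (inv_mem (hD hu)) ((h.mem_KK k4).2 ⟨hx, x2⟩)) (by
        calc u⁻¹ * x * y = u⁻¹ * (x * y * (x : G)⁻¹) * x := by group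
          _ = _ := by rw [← e2]; group)
      exact x1 ((m1 x).2 (inv_mul_eq_one.1 this ▸ hu))
    · have k4 := (card_map ι).trans k
      obtain ⟨s, hs, s1⟩ := hA _ (sU U) k4
      exact ⟨π ⟨s, hB _ (sU U) k4 (PP_le hs)⟩, (mH U _).2 (PP_le hs), fun e => s1 ((m1 _).1 e),
        (mO _).2 ((h.mem_KK k4).1 (h.PP_le_KK hm k4 hs)).2⟩
    · have k4 := (card_map ι).trans k
      obtain ⟨s, hs, s1⟩ := h.ne2 _ k4
      exact ⟨π ⟨s, hB _ (sU U) k4 hs⟩, (mH U _).2 hs, fun e => s1 ((mO _).1 e)⟩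
    · exact ⟨fun e => hd.ab (congrArg Subtype.val e), fun e => hd.ac (congrArg Subtype.val e),
        fun e => hd.ad (congrArg Subtype.val e), fun e => hd.bc (congrArg Subtype.val e),
        fun e => hd.bd (congrArg Subtype.val e), fun e => hd.cd (congrArg Subtype.val e)⟩
  obtain ⟨a', b', c', d', hd'⟩ := Q.ex
  obtain ⟨x, hx, x1, x3⟩ := no3 Q _ hd'.card
  obtain ⟨w, rfl⟩ := su x
  obtain ⟨s, i, e⟩ := ppart w.1 3 1
  have k1 : w.1 ^ 3 ^ 1 ∈ HH G Φ := (m1 (w ^ 3 ^ 1)).1 (by rw [map_pow, pow_one, x3])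
  have k2 := PP_le_FF (subset_closure ⟨mul_mem ((mH _ w).1 hx) (pow_mem (HH_mono (sU _) k1) s), i, e⟩)
  rw [hE _ (sU _) ((card_map ι).trans hd'.card)] at k2
  exact x1 ((m1 w).2 ((mul_mem_cancel_right (pow_mem k1 s)).1 k2))

end H41.Q4
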