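import Mathlib
import Cfsg.Agent.Base
import Cfsg.Agent.Lib.Quad4.T0

/-! Two-elements of `N(c)` centralise the kernel of the action on the fixed points of `c`. -/

set_option autoImplicit false
set_option linter.style.haveILetI false
set_option linter.unusedSectionVars false

namespace H41.Q4

open Subgroup MulAction H69 Finset
open scoped Pointwise

variable {G Ω : Type*} [Group G] [Finite G] [MulAction G Ω] [Fintype Ω] [DecidableEq Ω]
variable {m r : ℕ} {T : Finset Ω} {g x y c u w v v' : G} {a b d e : Ω}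

/-- The kernel of `N(c)` on the fixed points of `c`. -/
noncomputable def MM (Ω : Type*) [Fintype Ω] [MulAction G Ω] (c : G) : Subgroup G := 𝐍(zpowers c) ⊓ HH G (fe Ω c)

theorem mem_MM : u ∈ MM Ω c ↔ u ∈ 𝐍(zpowers c) ∧ u ∈ HH G (fe Ω c) := Iff.rfl

theorem self_MM : c ∈ MM Ω c := ⟨le_normalizer (mem_zpowers c), mem_HH_fe⟩

theorem norm_MM : 𝐍(zpowers c) ≤ 𝐍(MM Ω c) :=
  le_normalizer_inf le_normalizer fun _ hw => norm_HH (NZ_SS hw)

theorem conj_MM (hw : w ∈ 𝐍(zpowers c)) (hu : u ∈ MM Ω c) : w * u * w⁻¹ ∈ MM Ω c :=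
  (mem_normalizer_iff.1 (norm_MM hw) u).1 hu

omit [MulAction G Ω] [Fintype Ω] [DecidableEq Ω] in
theorem odd_card_of {L : Subgroup G} (h : ∀ x ∈ L, Odd (orderOf x)) : ¬ 2 ∣ Nat.card L := fun h2 => by
  obtain ⟨t, ht⟩ := exists_prime_orderOf_dvd_card' 2 h2
  have := h t t.2
  rw [orderOf_coe, ht] at this
  exact absurd this (by decide)

omit [MulAction G Ω] [Fintype Ω] [DecidableEq Ω] in
theorem le_of_sylows {C L : Subgroup G} (h : ∀ q : ℕ, q.Prime → ∃ R, IsSylowIn q R L ∧ R ≤ C) : L ≤ C := by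
  by_contra hn
  obtain ⟨q, hq, h1⟩ := Nat.exists_prime_and_dvd (n := (C ⊓ L).relIndex L)
    fun e => hn ((relIndex_eq_one.1 e).trans inf_le_left)
  haveI := Fact.mk hq
  obtain ⟨R, hR, h2⟩ := h q hq
  exact hR.not_dvd_relIndex_of_le (le_inf h2 hR.le) inf_le_right h1

omit [MulAction G Ω] [Fintype Ω] [DecidableEq Ω] in
theorem exists_gen {R : Subgroup G} (h : IsCyclic R) : ∃ s, R = zpowers s := by
  obtain ⟨s, hs⟩ := (Subgroup.isCyclic_iff_exists_zpowers_eq_top R).1 h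
  exact ⟨s, hs.symm⟩

namespace Q4

variable (h : Q4 G Ω m) (hm : ¬ 2 ∣ m)
include h hm

theorem sharpM (k : Gd Ω m r c) (h7 : (fe Ω c).card ≠ 7) (hd : D4 a b d e) (hs : {a, b, d, e} ⊆ fe Ω c)
    (hw : w ∈ 𝐍(zpowers c)) (h1 : w • a = a) (h2 : w • b = b) (h3 : w • d = d) (h4 : w • e = e) :
    w ∈ MM Ω c :=
  ⟨hw, h.sharp hm k h7 hd.card hs hw (mem_HH4.2 ⟨h1, h2, h3, h4⟩)⟩

theorem eq_one_MM (k : Gd Ω m r c) (hu : u ∈ MM Ω c) {i : ℕ} (h2 : u ^ 2 ^ i = 1) : u = 1 :=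
  eq_one_of_pows (h.oddM hm k hu.1 hu.2).coprime_two_right (pow_orderOf_eq_one u) (by
    have := (h.oddM hm k hu.1 hu.2).coprime_two_right.pow_right i
    rw [eq_one_of_pows this (pow_orderOf_eq_one u) h2, one_pow])

/-- A `2`-element of `N(c)` swapping two pairs of fixed points centralises the kernel. -/
theorem lemZ' (k : Gd Ω m r c) (h7 : (fe Ω c).card ≠ 7) (hd : D4 a b d e) (hs : {a, b, d, e} ⊆ fe Ω c)
    (hv : v ∈ 𝐍(zpowers c)) {i : ℕ} (v2 : v ^ 2 ^ i = 1) (h1 : v • a = b) (h2 : v • b = a) (h3 : v • d = e)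
    (h4 : v • e = d) (hu : u ∈ MM Ω c) : Commute v u := by
  have hs' := hs
  simp only [insert_subset_iff, singleton_subset_iff] at hs'
  obtain ⟨s1, s2, s3, s4⟩ := hs'
  obtain ⟨α, hα, a1, a2, a3, a4⟩ := h.tr4W hm k hd ⟨hd.ac, hd.ad, hd.ab, hd.cd, hd.bc.symm, hd.bd.symm⟩
    s1 s2 s3 s4 s1 s3 s4 s2
  obtain ⟨β, hβ, b1, b2, b3, b4⟩ := h.tr4W hm k hd ⟨hd.cd, hd.ac.symm, hd.bc.symm, hd.ad.symm, hd.bd.symm, hd.ab⟩
    s1 s2 s3 s4 s3 s4 s1 s2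
  refine (mem_centralizer_singleton_iff.1 (le_of_sylows (C := centralizer {v}) (fun q hq => ?_) hu)).symm
  haveI := Fact.mk hq
  obtain ⟨R, hR, hn⟩ := inv_sylow v2 (norm_MM hv) (odd_card_of fun x hx => h.oddM hm k hx.1 hx.2) q
  refine ⟨R, hR, ?_⟩
  have hT : R ≤ HH G {a, b, d, e} := hR.le.trans (inf_le_right.trans (HH_mono hs))
  by_cases hq' : q ∣ m
  swap
  · intro x hx
    obtain ⟨j, hj⟩ := isPGroup_iff_mem.1 hR.isP x hx
    rw [h.noK k hd.card hs (hR.le hx).1 ((h.mem_KK hd.card).2 ⟨hT hx, cop_of hq hq' hj⟩)]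
    exact one_mem _
  obtain ⟨s, rfl⟩ := exists_gen (h.cyc hd.card (fun e => hm (e ▸ hq')) hq' hT hR.isP)
  obtain ⟨α, hα', n, hn1, rfl⟩ := hR.frattini' (norm_MM hα)
  obtain ⟨β, hβ', n', hn2, rfl⟩ := hR.frattini' (norm_MM hβ)
  simp only [mul_smul, hn1.2 _ s1, hn1.2 _ s2, hn1.2 _ s3, hn1.2 _ s4, hn2.2 _ s1, hn2.2 _ s2, hn2.2 _ s3,
    hn2.2 _ s4] at a1 a2 a3 a4 b1 b2 b3 b4
  replace hα := (Subgroup.mul_mem_cancel_right _ hn1.1).1 hα
  replace hβ := (Subgroup.mul_mem_cancel_right _ hn2.1).1 hβ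
  have i1 := fun {x y : Ω} (e : α • x = y) => inv_smul_eq_iff.2 e.symm
  have i2 := fun {x y : Ω} (e : β • x = y) => inv_smul_eq_iff.2 e.symm
  have hw : α * β * α⁻¹ * β⁻¹ * v ∈ MM Ω c := h.sharpM hm k h7 hd hs
    (mul_mem (mul_mem (mul_mem (mul_mem hα hβ) (inv_mem hα)) (inv_mem hβ)) hv)
    (by simp only [mul_smul, h1, i2 b4, i1 a3, b3, a1]) (by simp only [mul_smul, h2, i2 b3, i1 a2, b2, a4])
    (by simp only [mul_smul, h3, i2 b2, i1 a4, b4, a2]) (by simp only [mul_smul, h4, i2 b1, i1 a1, b1, a3])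
  let f := (zpowers s).normalizerMonoidHom
  have hz' : ∀ z, ∀ hz : z ∈ 𝐍(zpowers s), f ⟨z, hz⟩ = 1 ↔ Commute z s := fun z hz => by
    rw [← MonoidHom.mem_ker, normalizerMonoidHom_ker, mem_subgroupOf, H2.centralizer_zpowers,
      mem_centralizer_singleton_iff]
    rfl
  have n1 : α * β * α⁻¹ * β⁻¹ ∈ 𝐍(zpowers s) := mul_mem (mul_mem (mul_mem hα' hβ') (inv_mem hα')) (inv_mem hβ')
  have e1 : f ⟨_, mul_mem n1 hn⟩ = f ⟨v, hn⟩ := by
    rw [← one_mul (f ⟨v, hn⟩), ← (hz' _ n1).2 (comm_zp hα' hβ'), ← map_mul]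
    rfl
  have e2 : f ⟨v, hn⟩ = 1 := by
    refine eq_one_of_pows ((h.oddM hm k hw.1 hw.2).coprime_two_right.pow_right i) ?_ ?_
    · rw [← e1, ← map_pow, ← f.map_one]
      exact congrArg f (Subtype.ext (pow_orderOf_eq_one _))
    · rw [← map_pow, ← f.map_one]
      exact congrArg f (Subtype.ext v2)
  exact zpowers_le.2 (mem_centralizer_singleton_iff.2 ((hz' v hn).1 e2).symm)

/-- The involution swapping two given pairs is unique. -/
theorem swap_uniq (k : Gd Ω m r c) (h7 : (fe Ω c).card ≠ 7) (hd : D4 a b d e) (hs : {a, b, d, e} ⊆ fe Ω c)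
    (hv : v ∈ 𝐍(zpowers c)) (v2 : v * v = 1) (h1 : v • a = b) (h2 : v • b = a) (h3 : v • d = e) (h4 : v • e = d)
    (hv' : v' ∈ 𝐍(zpowers c)) (v2' : v' * v' = 1) (h1' : v' • a = b) (h2' : v' • b = a) (h3' : v' • d = e)
    (h4' : v' • e = d) : v = v' := by
  have hu : v * v' ∈ MM Ω c := h.sharpM hm k h7 hd hs (mul_mem hv hv') (by simp [mul_smul, *])
    (by simp [mul_smul, *]) (by simp [mul_smul, *]) (by simp [mul_smul, *])
  have hc := h.lemZ' hm k h7 hd hs hv (i := 1) (by rwa [pow_one, sq]) h1 h2 h3 h4 hu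
  have : v * v' = 1 := h.eq_one_MM hm k hu (i := 1) (by
    rw [pow_one, sq, ← mul_assoc, ← hc.eq, ← mul_assoc, v2, one_mul, v2'])
  rw [eq_inv_of_mul_eq_one_left this, inv_eq_of_mul_eq_one_right v2']

theorem zp_of_MM (k : Gd Ω m r c) (hu : u ∈ MM Ω c) (h3 : u ^ r = 1) : u ∈ zpowers c := by
  obtain ⟨T, hT, h4⟩ := k.exT
  exact h.mem_zp hm k h4 hT (HH_mono hT hu.2) h3 hu.1

/-- The distinguished lift `z` of an element of order three inverted by an involution `v` centralising the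
kernel; all lifts of order dividing three lie in `z⟨c⟩`. -/
theorem lemZ (k : Gd Ω m 3 c) (hv : v ∈ 𝐍(zpowers c)) (v2 : v * v = 1) (hc : ∀ u ∈ MM Ω c, Commute v u)
    (hx : x ∈ 𝐍(zpowers c)) (x3 : x ^ 3 = 1) (hi : v * x * v * x ∈ MM Ω c) :
    ∃ z ∈ 𝐍(zpowers c), z ^ 3 = 1 ∧ v * z * v = z⁻¹ ∧ (∀ u ∈ MM Ω c, Commute z u) ∧ z⁻¹ * x ∈ MM Ω c ∧
      ∀ y, y ^ 3 = 1 → z⁻¹ * y ∈ MM Ω c → z⁻¹ * y ∈ zpowers c := by
  have vi : v⁻¹ = v := inv_eq_of_mul_eq_one_right v2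
  have hz : ∀ u ∈ MM Ω c, Commute (x⁻¹ * v * x * v) u := fun u hu => by
    refine Commute.mul_left ?_ (hc u hu)
    have := (hc _ (conj_MM hx hu)).eq
    change _ = _
    calc _ = x⁻¹ * (v * (x * u * x⁻¹)) * x := by group
      _ = _ := by rw [this]; group
  have hW : x⁻¹ * v * x * v ∈ 𝐍(zpowers c) := mul_mem (mul_mem (mul_mem (inv_mem hx) hv) hx) hv
  have h1 : v * (x⁻¹ * v * x * v) * v = (x⁻¹ * v * x * v)⁻¹ := by
    simp only [mul_inv_rev, vi, inv_inv, mul_assoc, v2, mul_one]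
  have xx : x * x = x⁻¹ := eq_inv_of_mul_eq_one_left (by rw [← x3, pow_three'])
  have h2 : (x⁻¹ * v * x * v)⁻¹ * x ∈ MM Ω c := by
    have e : (x⁻¹ * v * x * v)⁻¹ * x = v * (v * x * v * x)⁻¹ * v⁻¹ := by
      simp only [mul_inv_rev, vi, inv_inv, mul_assoc, xx, v2, mul_one]
    rw [e]
    exact conj_MM hv (inv_mem hi)
  generalize x⁻¹ * v * x * v = z at hz hW h1 h2
  have k3 : ∀ y, z⁻¹ * y ∈ MM Ω c → y ^ 3 = z ^ 3 * (z⁻¹ * y) ^ 3 := fun y hy => by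
    rw [← (hz _ hy).mul_pow, mul_inv_cancel_left]
  have h3 : z ^ 3 ∈ MM Ω c := by
    rw [eq_inv_of_mul_eq_one_left ((k3 x h2).symm.trans x3)]
    exact inv_mem (pow_mem h2 3)
  have h4 : z ^ 3 = 1 := h.eq_one_MM hm k h3 (i := 1) (by
    have e : v * z ^ 3 * v⁻¹ = (z ^ 3)⁻¹ := by rw [← conj_pow, vi, h1, inv_pow]
    rw [(hc _ h3).eq, mul_inv_cancel_right] at e
    rw [pow_one, sq, mul_eq_one_iff_eq_inv.2 e])
  exact ⟨z, hW, h4, h1, hz, h2, fun y y3 hy => h.zp_of_MM hm k hy (by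
    rw [← one_mul (_ ^ 3), ← h4, ← k3 y hy, y3, h4])⟩

end Q4

end H41.Q4
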