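import Mathlib
import Cfsg.Agent.Base
import Cfsg.Agent.Lib.Quad4.LemZ

/-! Four-point stabilisers of order prime to three: a normal `3`-complement of the three-point stabiliser. -/

set_option autoImplicit false
set_option linter.style.haveILetI false
set_option linter.unusedSectionVars false

namespace H41.Q4

open Subgroup MulAction H69 Finset
open scoped Pointwise

section grp

variable {G : Type*} [Group G] [Finite G] {x y z v s d g : G}

theorem comm_of_mul (hz : Commute z s) (hv : v ∈ 𝐍(zpowers s)) {a b : ℕ} (h1 : (z * v) ^ a = 1) (h2 : v ^ b = 1)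
    (hc : a.Coprime b) : Commute v s := by
  let f := (zpowers s).normalizerMonoidHom
  have hz' : ∀ z, ∀ hz : z ∈ 𝐍(zpowers s), f ⟨z, hz⟩ = 1 ↔ Commute z s := fun z hz => by
    rw [← MonoidHom.mem_ker, normalizerMonoidHom_ker, mem_subgroupOf, H2.centralizer_zpowers,
      mem_centralizer_singleton_iff]
    rfl
  have n1 := norm_zp_of_comm hz
  have e1 : f ⟨_, mul_mem n1 hv⟩ = f ⟨v, hv⟩ := by
    rw [← one_mul (f ⟨v, hv⟩), ← (hz' _ n1).2 hz, ← map_mul]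
    rfl
  refine (hz' v hv).1 (eq_one_of_pows hc ?_ ?_)
  · rw [← e1, ← map_pow, ← f.map_one]
    exact congrArg f (Subtype.ext h1)
  · rw [← map_pow, ← f.map_one]
    exact congrArg f (Subtype.ext h2)

/-- Burnside's theorem for a Sylow subgroup of order three. -/
theorem burn3 {L : Subgroup G} (o : orderOf d = 3) (hd : d ∈ L)
    (h1 : ∀ g ∈ L, Commute g d → ∀ k, g ^ 3 ^ k = 1 → g ∈ zpowers d) (h2 : ∀ g ∈ L, g * d * g⁻¹ ≠ d⁻¹) :
    ∃ M ≤ L, L ≤ 𝐍(M) ∧ ¬ 3 ∣ Nat.card M ∧ ∀ g ∈ L, ¬ 3 ∣ orderOf g → g ∈ M := by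
  have d3 : d ^ 3 = 1 := by rw [← o, pow_orderOf_eq_one]
  have pd : IsPGroup 3 (zpowers d) := pg_zpowers (k := 1) d3
  have nc : ∀ g ∈ L, g ∈ 𝐍(zpowers d) → Commute g d := fun g hg hn => by
    rcases mem_zp3 d3 (conj_mem_of_mem_normalizer hn (mem_zpowers d)) with e | e | e
    · rw [conj_eq_one_iff.1 e]
      exact Commute.one_right g
    · exact mul_inv_eq_iff_eq_mul.1 e
    · exact (h2 g hg (e.trans (eq_inv_of_mul_eq_one_left (by rw [← d3, pow_three'])))).elim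
  have syl : IsSylowIn 3 (zpowers d) L := ⟨zpowers_le.2 hd, pd, fun Q l1 l2 hQ => by
    by_contra ne
    obtain ⟨n, i1, i2⟩ := SetLike.exists_of_lt (lt_inf_normalizer_of_lt hQ (l1.lt_of_ne (Ne.symm ne)))
    obtain ⟨k, e⟩ := isPGroup_iff_mem.1 hQ n i1.1
    exact i2 (h1 n (l2 i1.1) (nc n (l2 i1.1) i1.2) k e)⟩
  obtain ⟨P, hP⟩ := syl.exists_sylow
  have hN : normalizer ((P : Subgroup L) : Set L) ≤ centralizer ((P : Subgroup L) : Set L) := fun g hg x hx => by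
    have k1 : (g : G) ∈ L ⊓ 𝐍(zpowers d) := by
      rw [← hP, ← map_subtype_normalizer]
      exact mem_map_of_mem _ hg
    obtain ⟨j, hj⟩ : (x : G) ∈ zpowers d := hP ▸ mem_map_of_mem L.subtype hx
    exact Subtype.ext (by rw [Subgroup.coe_mul, Subgroup.coe_mul, ← hj]; exact ((nc g g.2 k1.2).zpow_right j).symm.eq)
  have hc := MonoidHom.ker_transferSylow_isComplement' P hN
  refine ⟨(MonoidHom.transferSylow P hN).ker.map L.subtype, map_subtype_le _,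
    normal_iff_le_normalizer_map.1 inferInstance, ?_, fun g hg h3 => ?_⟩
  · rw [card_map_subtype, ← hc.index_eq_card]
    exact P.not_dvd_index
  · refine ⟨⟨g, hg⟩, ?_, rfl⟩
    obtain ⟨k, hk⟩ := P.isPGroup' (MonoidHom.transferSylow P hN ⟨g, hg⟩)
    refine eq_one_of_pows (((Nat.Prime.coprime_iff_not_dvd Nat.prime_three).2 h3).pow_left k) hk ?_
    rw [← map_pow, ← (MonoidHom.transferSylow P hN).map_one]
    exact congrArg _ (Subtype.ext (pow_orderOf_eq_one g))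

end grp

variable {G Ω : Type*} [Group G] [Finite G] [MulAction G Ω] [Fintype Ω] [DecidableEq Ω]
variable {m r : ℕ} {T U A : Finset Ω} {g x c d s : G} {a b e y : Ω}

theorem nine_dvd {X : Subgroup G} (hX : X ≤ SS G A) (h : ∀ s ∈ X, ∀ k, s ^ 3 ^ k = 1 → ∀ a ∈ A, s • a = a → s = 1)
    (o : orderOf d = 3) (hd : d ∈ X) (hg : g ∈ X) (hc : Commute g d) {k : ℕ} (g3 : g ^ 3 ^ k = 1)
    (hn : g ∉ zpowers d) : 9 ∣ A.card := by
  have hE := isPGroup_sup_of_le_normalizer_right (pg_zpowers g3) (pg_zpowers (x := d) (p := 3) (k := 1)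
    (by rw [pow_one, ← o, pow_orderOf_eq_one])) (zpowers_le.2 (norm_zp_of_comm hc))
  have hle : zpowers g ⊔ zpowers d ≤ X := sup_le (zpowers_le.2 hg) (zpowers_le.2 hd)
  refine Dvd.dvd.trans ?_ (dvd_of_semireg (hle.trans hX) fun s hs a ha e => by
    obtain ⟨j, hj⟩ := isPGroup_iff_mem.1 hE s hs
    exact h s (hle hs) j hj a ha e)
  obtain ⟨j, hj⟩ := hE.exists_card_eq
  have h1 : Nat.card (zpowers d) < Nat.card ↥(zpowers g ⊔ zpowers d) := not_le.1 fun e =>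
    hn ((eq_of_le_of_card_ge le_sup_right e).ge (mem_sup_left (mem_zpowers g)))
  rw [Nat.card_zpowers, o, hj] at h1
  rw [hj]
  exact pow_dvd_pow 3 (show 2 ≤ j from (pow_lt_pow_iff_right₀ (by norm_num : 1 < 3)).1 ((pow_one 3).symm ▸ h1))

theorem card3 (hab : a ≠ b) (hae : a ≠ e) (hbe : b ≠ e) : ({a, b, e} : Finset Ω).card = 3 :=
  card_eq_three.2 ⟨a, b, e, hab, hae, hbe, rfl⟩

theorem mem_D3 : y ∈ univ \ {a, b, e} ↔ a ≠ y ∧ b ≠ y ∧ e ≠ y := by simp [eq_comm]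

theorem SS_D3 (hx : x ∈ HH G T) : x ∈ SS G (univ \ T) := SS_sdiff SS_univ (HH_le_SS hx)

/-- The kernels have even order and the four-point stabilisers have order prime to three. -/
structure N3 (G Ω : Type*) [Group G] [MulAction G Ω] (m : ℕ) : Prop where
  q : Q4 G Ω m
  hm : ¬ 2 ∣ m
  h3 : ∀ U : Finset Ω, U.card = 4 → ∀ x ∈ HH G U, ¬ 3 ∣ orderOf x

namespace N3

variable (h : N3 G Ω m)
include h

theorem one (h4 : T.card = 4) (hx : x ∈ HH G T) {k : ℕ} (e : x ^ 3 ^ k = 1) : x = 1 :=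
  eq_one_of_pows (((Nat.Prime.coprime_iff_not_dvd Nat.prime_three).2 (h.h3 T h4 x hx)).pow_left k) e
    (pow_orderOf_eq_one x)

theorem fe_le (h1 : x ≠ 1) {k : ℕ} (e : x ^ 3 ^ k = 1) : (fe Ω x).card ≤ 3 := by
  by_contra hn
  obtain ⟨T, hT, h4⟩ := exists_subset_card_eq (show 4 ≤ _ from not_le.1 hn)
  exact h1 (h.one h4 (mem_HH_iff.2 hT) e)

theorem card (h4 : T.card = 4) : ¬ 3 ∣ Nat.card (HH G T) := fun h2 => by
  obtain ⟨t, ht⟩ := exists_prime_orderOf_dvd_card' 3 h2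
  exact h.h3 T h4 t t.2 (by rw [orderOf_coe, ht])

theorem cop6 (h2 : ¬ 2 ∣ r) (h3 : ¬ 3 ∣ r) : r.Coprime 6 :=
  (((Nat.Prime.coprime_iff_not_dvd Nat.prime_two).2 h2).mul_left
    ((Nat.Prime.coprime_iff_not_dvd Nat.prime_three).2 h3)).symm

theorem gd6 (k : Gd Ω m r c) : (orderOf c).Coprime 6 := by
  obtain ⟨T, hT, h4⟩ := k.exT
  exact h.cop6 (fun e => h.hm (e.trans (k.ord ▸ k.dvd))) (h.h3 T h4 c (mem_HH_iff.2 hT))

theorem five (k : Gd Ω m r c) : 5 ≤ r := by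
  have h1 := k.ord ▸ h.gd6 k
  have h2 := k.pr.two_le
  by_contra hn
  rcases (by omega : r = 2 ∨ r = 3 ∨ r = 4) with e | e | e <;> exact absurd (e ▸ h1) (by decide)

theorem blk (h4 : T.card = 4) : ((FF G 2 T).card = 4 ∨ (FF G 2 T).card = 6) ∧ HH G T ≤ HH G (FF G 2 T) := by
  refine (h.q.blk h.hm h4).resolve_right fun ⟨h7, w, hw, h1⟩ => h1 ?_
  obtain ⟨u, hu, v, hv, rfl, h2, h3⟩ := decomp w 2
  have hv' := zpowers_le.2 hw hv
  refine mul_mem (PP_le_FF ((h.q.mem_PP h.hm h4).2 ⟨zpowers_le.2 hw hu, h2⟩)) (HH_of_sdiff hv'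
    (fix_of_cop (SS_sdiff (SS_FF (HH_le_SS hv')) (HH_le_SS hv')) ?_))
  rw [card_sdiff_of_subset sub_FF, h7, h4]
  exact h.cop6 h3 (h.h3 T h4 v hv')

theorem phi (k : Gd Ω m r c) : (fe Ω c).card ≠ 7 := fun h7 => by
  obtain ⟨T, hT, h4⟩ := k.exT
  obtain ⟨-, w, hw, h1, h2⟩ := (h.q.hallW h.hm k h4 hT).resolve_left fun e => by omega
  refine h2 (HH_of_sdiff h1 (fix_of_cop (SS_sdiff (NZ_SS hw) (HH_le_SS h1)) ?_))
  rw [card_sdiff_of_subset hT, h7, h4]
  exact h.cop6 (h.q.oddW h.hm k h4 hT hw h1).not_two_dvd_nat (h.h3 T h4 w h1)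

variable (hab : a ≠ b) (hae : a ≠ e) (hbe : b ≠ e)
include hab hae hbe

theorem odd : ¬ 2 ∣ (univ \ {a, b, e} : Finset Ω).card := by
  obtain ⟨T, h4⟩ := h.q.exT
  have h1 := h.q.mod_FF h.hm h4
  have h2 := (h.blk h4).1
  have h3 := h.q.seven_le
  rw [card_sdiff_of_subset (subset_univ _), card_univ, card3 hab hae hbe]
  unfold Nat.ModEq at h1
  omega

theorem exD : ∃ y, y ∈ (univ \ {a, b, e} : Finset Ω) :=
  card_pos.1 (Nat.pos_of_ne_zero fun e => h.odd hab hae hbe (e ▸ dvd_zero 2))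

theorem fe_eq (o : orderOf d = 3) (hd : d ∈ HH G {a, b, e}) : fe Ω d = {a, b, e} :=
  (eq_of_subset_of_card_le (mem_HH_iff.1 hd) (by
    rw [card3 hab hae hbe]
    exact h.fe_le (k := 1) (fun e => by simp [e] at o) (by rw [pow_one, ← o, pow_orderOf_eq_one]))).symm

theorem lemA1 (o : orderOf d = 3) (hd : d ∈ HH G {a, b, e}) (hy : y ∈ univ \ {a, b, e}) :
    ∃ c r, Gd Ω m r c ∧ Commute d c ∧ fe Ω c = {a, b, e} ∪ {y, d • y, d ^ 2 • y} ∧ (fe Ω c).card = 6 ∧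
      D4 a y (d • y) (d ^ 2 • y) := by
  have d3 : d ^ 3 = 1 := by rw [← o, pow_orderOf_eq_one]
  have hf := h.fe_eq hab hae hbe o hd
  have hy' : d • y ≠ y := fun e => (mem_sdiff.1 hy).2 (hf ▸ mem_fe.2 e)
  have k1 := fun i j => pow_smul_ne (i := i) (j := j) Nat.prime_three o hy'
  have y1 := (SS_D3 hd y).2 hy
  have y2 := (SS_D3 (pow_mem hd 2) y).2 hy
  have hd4 : D4 a y (d • y) (d ^ 2 • y) := ⟨(mem_D3.1 hy).1, (mem_D3.1 y1).1, (mem_D3.1 y2).1, hy'.symm,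
    by simpa using k1 0 2 (by omega) (by omega), by simpa using k1 1 2 (by omega) (by omega)⟩
  have da := (mem_HH3.1 hd).1
  have dd : d • d • y = d ^ 2 • y := by rw [← mul_smul, sq]
  have ddd : d • d ^ 2 • y = y := by rw [← mul_smul, ← pow_succ', d3, one_smul]
  obtain ⟨c0, hc0, r, k0⟩ := h.q.exists_gd' hd4.card
  haveI := Fact.mk k0.pr
  obtain ⟨R, hR, hn⟩ := inv_sylow (p := 3) (k := 1) (x := d) (by rwa [pow_one])
    (norm_HH (T := {a, y, d • y, d ^ 2 • y}) (mem_SS_of (by simp [da, dd, ddd]))) (h.card hd4.card) r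
  obtain ⟨c, hc, oc⟩ := exists_orderOf_eq_prime hR.isP
    (hR.dvd_card_iff.1 (k0.ord ▸ Subgroup.orderOf_dvd_natCard _ hc0))
  have hs := mem_HH_iff.1 (hR.le hc)
  have k : Gd Ω m r c := ⟨k0.pr, k0.dvd, oc, hd4.card ▸ card_le_card hs⟩
  have hW : d ∈ 𝐍(zpowers c) := norm_zp (H80.mem_zpowers_of_orderOf_dvd
    (h.q.cyc hd4.card (k.ne2 h.hm) k.dvd hR.le hR.isP) (conj_mem_of_mem_normalizer hn hc) hc (by rw [orderOf_cj]))
  have hs' := hs
  simp only [insert_subset_iff, singleton_subset_iff] at hs'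
  obtain ⟨s1, s2, s3, s4⟩ := hs'
  obtain ⟨g, hg, g1, g2, g3, g4⟩ := h.q.tr4W h.hm k hd4 ⟨hd4.ab, hd4.ad, hd4.ac, hd4.bd, hd4.bc, hd4.cd.symm⟩
    s1 s2 s3 s4 s1 s2 s4 s3
  have i := fun {x y : Ω} (e : g • x = y) => inv_smul_eq_iff.2 e.symm
  have hu : g * d * g⁻¹ * d⁻¹ * d ^ 2 ∈ HH G {a, y, d • y, d ^ 2 • y} := by
    rw [show g * d * g⁻¹ * d⁻¹ * d ^ 2 = g * d * g⁻¹ * d by group]
    simp only [mem_HH4, mul_smul, da, dd, ddd, i g1, i g2, i g3, i g4, g1, g2, g3, g4, and_self]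
  have hc2 := comm_of_mul (comm_zp hg hW) (pow_mem hW 2) (pow_orderOf_eq_one _) (b := 3)
    (by rw [← pow_mul, mul_comm, pow_mul, d3, one_pow])
    ((Nat.Prime.coprime_iff_not_dvd Nat.prime_three).2 (h.h3 _ hd4.card _ hu)).symm
  have hc1 : Commute d c := by
    have := hc2.pow_left 2
    rwa [← pow_mul, show 2 * 2 = 3 + 1 from rfl, pow_succ, d3, one_mul] at this
  have h1 : {a, b, e} ⊆ fe Ω c := mem_HH_iff.1 (fix_of_cop (hf ▸ SS_of_comm hc1.symm) (by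
    rw [card3 hab hae hbe]
    exact h.gd6 k))
  have h2 : {a, b, e} ∪ {y, d • y, d ^ 2 • y} ⊆ fe Ω c := union_subset h1 ((subset_insert _ _).trans hs)
  have h3 : ({a, b, e} ∪ {y, d • y, d ^ 2 • y} : Finset Ω).card = 6 := by
    rw [card_union_of_disjoint, card3 hab hae hbe, card3 hd4.bc hd4.bd hd4.cd]
    simp only [disjoint_insert_right, disjoint_singleton_right]
    exact ⟨(mem_sdiff.1 hy).2, (mem_sdiff.1 y1).2, (mem_sdiff.1 y2).2⟩
  have h4 := card_modEq_fe (p := 3) (k := 1) (x := d) (by rwa [pow_one]) (SS_of_comm (Ω := Ω) hc1)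
  rw [hf, inter_eq_right.2 h1, card3 hab hae hbe] at h4
  have h5 : (fe Ω c).card = 6 := by
    have := h.q.phi h.hm k
    have := card_le_card h2
    unfold Nat.ModEq at h4
    omega
  exact ⟨c, r, k, hc1, (eq_of_subset_of_card_le h2 (by omega)).symm, h5, hd4⟩

theorem lemA2 (o : orderOf d = 3) (hd : d ∈ HH G {a, b, e}) : 9 ∣ Fintype.card Ω - 6 := by
  have d3 : d ^ 3 = 1 := by rw [← o, pow_orderOf_eq_one]
  obtain ⟨y, hy⟩ := h.exD hab hae hbe
  obtain ⟨c, r, k, hc, hf, h6, hd4⟩ := h.lemA1 hab hae hbe o hd hy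
  replace hy := (mem_sdiff.1 hy).2
  simp only [mem_insert, mem_singleton, not_or] at hy
  obtain ⟨g, hg, g1, g2, g3, -⟩ := h.q.tr4W h.hm k ⟨hab, hae, Ne.symm hy.1, hbe, Ne.symm hy.2.1, Ne.symm hy.2.2⟩
    ⟨hd4.bc, hd4.bd, hd4.ab.symm, hd4.cd, hd4.ac.symm, hd4.ad.symm⟩ (by simp [hf]) (by simp [hf]) (by simp [hf])
    (by simp [hf]) (by simp [hf]) (by simp [hf]) (by simp [hf]) (by simp [hf])
  have h1 : g * d * g⁻¹ ∈ 𝐂(zpowers c) ⊓ HH G {y, d • y, d ^ 2 • y} :=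
    ⟨conj_mem_of_mem_normalizer (normalizer_le_normalizer_centralizer _ hg)
      (by rw [centralizer_zpowers, mem_centralizer_singleton_iff]; exact hc),
    by simpa [smul_finset_insert, g1, g2, g3] using conj_HH_smul g hd⟩
  have hdc : d ∈ 𝐂(zpowers c) := by rw [centralizer_zpowers, mem_centralizer_singleton_iff]; exact hc
  obtain ⟨x, hx, ox, hxc⟩ := exists_cent (p := 3) (k := 1) (x := d) (by rwa [pow_one])
    (zpowers_le.1 (le_normalizer_inf (zpowers_le.2 (le_normalizer hdc)) (zpowers_le.2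
      (norm_HH (T := {y, d • y, d ^ 2 • y}) (mem_SS_of (by simp [← mul_smul, ← pow_succ', ← sq, d3]))))))
    (by rw [← o, ← orderOf_cj g]; exact Subgroup.orderOf_dvd_natCard _ h1)
  rw [← h6, ← card_univ, ← card_sdiff_of_subset (subset_univ _)]
  refine nine_dvd (X := 𝐂(zpowers c)) (fun s hs => SS_sdiff SS_univ (NZ_SS (centralizer_le_normalizer _ hs)))
    (fun s hs j hj z hz e => ?_) o hdc hx.1 hxc.symm (k := 1) (by rw [pow_one, ← ox, pow_orderOf_eq_one]) fun k1 => ?_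
  · have hs' : Commute s c := (hs c (mem_zpowers c)).symm
    refine h.one (D4_orb k.pr (by have := h.five k; omega) k.ord fun e => (mem_sdiff.1 hz).2 (mem_fe.2 e)).card
      (mem_HH4.2 ⟨e, by simpa using comm_fix hs' e 1, comm_fix hs' e 2, comm_fix hs' e 3⟩) hj
  · have := mem_HH3.1 (zpowers_le.2 hd k1)
    have := h.one (D4.card ⟨hab, hae, Ne.symm hy.1, hbe, Ne.symm hy.2.1, Ne.symm hy.2.2⟩)
      (mem_HH4.2 ⟨this.1, this.2.1, this.2.2, (mem_HH3.1 hx.2).1⟩) (k := 1) (by rw [pow_one, ← ox, pow_orderOf_eq_one])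
    simp [this] at ox

theorem D4_of (hy : y ∈ univ \ {a, b, e}) : D4 a b e y :=
  ⟨hab, hae, (mem_D3.1 hy).1, hbe, (mem_D3.1 hy).2.1, (mem_D3.1 hy).2.2⟩

theorem HH4_of (hx : x ∈ HH G {a, b, e}) (e' : x • y = y) : x ∈ HH G {a, b, e, y} :=
  mem_HH4.2 ⟨(mem_HH3.1 hx).1, (mem_HH3.1 hx).2.1, (mem_HH3.1 hx).2.2, e'⟩

/-- The three-point stabiliser has a normal subgroup of order prime to three containing all `3'`-elements. -/
theorem lemA : ∃ M ≤ HH G {a, b, e}, HH G {a, b, e} ≤ 𝐍(M) ∧ ¬ 3 ∣ Nat.card M ∧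
    ∀ g ∈ HH G {a, b, e}, ¬ 3 ∣ orderOf g → g ∈ M := by
  by_cases h3 : 3 ∣ Nat.card (HH G {a, b, e})
  swap
  · exact ⟨_, le_rfl, le_normalizer, h3, fun _ hg _ => hg⟩
  obtain ⟨⟨d, hd⟩, o⟩ := exists_prime_orderOf_dvd_card' 3 h3
  replace o : orderOf d = 3 := by rw [← o, orderOf_mk]
  have d3 : d ^ 3 = 1 := by rw [← o, pow_orderOf_eq_one]
  refine burn3 o hd (fun g hg hc k e0 => by_contra fun hn => ?_) fun g hg e0 => ?_
  · have h1 := nine_dvd (X := HH G {a, b, e}) (A := univ \ {a, b, e}) (fun s => SS_D3) (fun s hs j hj z hz e' =>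
      h.one (h.D4_of hab hae hbe hz).card (h.HH4_of hab hae hbe hs e') hj) o hd hg hc e0 hn
    have h2 := h.lemA2 hab hae hbe o hd
    have h3 := h.q.seven_le
    rw [card_sdiff_of_subset (subset_univ _), card_univ, card3 hab hae hbe] at h1
    omega
  · have hn : g ∈ 𝐍(zpowers d) := norm_zp (e0 ▸ inv_mem (mem_zpowers d))
    obtain ⟨j, i, hi⟩ := ppart g 2 1
    have hs : g * (g ^ 2 ^ 1) ^ j ∈ HH G {a, b, e} := mul_mem hg (pow_mem (pow_mem hg _) _)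
    have hs' : g * (g ^ 2 ^ 1) ^ j ∈ 𝐍(zpowers d) := mul_mem hn (pow_mem (pow_mem hn _) _)
    obtain ⟨y, hy, e'⟩ := exists_fix_elt hi (SS_D3 hs) (h.odd hab hae hbe)
    obtain ⟨c, r, k, hc, hf, -⟩ := h.lemA1 hab hae hbe o hd hy
    have h4 := (h.D4_of hab hae hbe hy).card
    have hc' : c ∈ HH G {a, b, e, y} := mem_HH_iff.2 (by simp [hf, insert_subset_iff])
    obtain ⟨u, hu, e1⟩ := h.q.surj h4 hc' k.ncop (N := KK G m {a, b, e, y} ⊓ 𝐍(zpowers d)) inf_le_left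
      (zpowers_le.1 (le_normalizer_inf (zpowers_le.2 (h.q.norm_KK h4 (HH_le_SS hc')))
        (zpowers_le.2 (le_normalizer (norm_zp_of_comm hc.symm)))))
      ⟨(h.q.mem_KK h4).2 ⟨h.HH4_of hab hae hbe hs e', cop_of Nat.prime_two h.hm hi⟩, hs'⟩
    have h1 := comm_zp hu.2 (norm_zp_of_comm hc.symm)
    have h2 : Commute g d := by
      rw [e1] at h1
      simpa using h1.mul_left ((sq_comm3 d3 hn).pow_left j).inv_left
    rw [h2.eq, mul_inv_cancel_right] at e0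
    have := eq_one_of_pows (a := 2) (by decide) (by rw [sq]; exact mul_eq_one_iff_eq_inv.2 e0) d3
    simp [this] at o

end N3

end H41.Q4
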