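import Mathlib
import Cfsg.Agent.Base
import Cfsg.Agent.Lib.Quad4.T0
import Cfsg.Agent.Lib.Perm.PrimeDegree

/-! An element of order three in a Frobenius complement does not fix eleven points. -/

set_option autoImplicit false
set_option linter.style.haveILetI false
set_option linter.unusedSectionVars false
set_option linter.dupNamespace false

namespace H41.Q4

open Subgroup MulAction H69 Finset
open scoped Pointwise

variable {G Ω : Type*} [Group G] [Finite G] [MulAction G Ω] [Fintype Ω] [DecidableEq Ω]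
variable {m r : ℕ} {T : Finset Ω} {c : G}

namespace P11

/-- the centraliser of `c` in the stabiliser of `y` -/
def Gm (c : G) (y : Ω) : Subgroup G := centralizer {c} ⊓ HH G {y}

theorem mem_Gm {y : Ω} {g : G} : g ∈ Gm c y ↔ Commute g c ∧ g • y = y := by
  rw [Gm, Subgroup.mem_inf, mem_centralizer_singleton_iff, mem_HH]
  simp [commute_iff_eq]

theorem Gm_SS {y : Ω} : Gm c y ≤ SS G (fe Ω c) := fun _ hg => SS_of_comm (mem_Gm.1 hg).1

theorem exists_ord {S : Subgroup G} (p : ℕ) [Fact p.Prime] (h : p ∣ Nat.card S) :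
    ∃ x ∈ S, orderOf x = p := by
  obtain ⟨x, hx⟩ := exists_prime_orderOf_dvd_card' p h
  exact ⟨x, x.2, (Subgroup.orderOf_coe x).trans hx⟩

/-- the hypotheses -/
structure Hy (m : ℕ) (c : G) (y : Ω) : Prop where
  h : Q4 G Ω m
  hm : ¬ 2 ∣ m
  k : Gd Ω m 3 c
  e : (fe Ω c).card = 11
  hy : y ∉ fe Ω c

namespace Hy
variable {y p q : Ω} {x : G} (H : Hy m c y)
include H

theorem one {g : G} (hg : g ∈ Gm c y) {U : Finset Ω} (hU : U ⊆ fe Ω c) (h4 : 4 ≤ U.card)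
    (h : g ∈ HH G U) : g = 1 := by
  obtain ⟨U', h1, h2⟩ := exists_subset_card_eq h4
  have h3 := HH_mono h1 h
  have h5 := H.h.sharp H.hm H.k (by rw [H.e]; decide) h2 (h1.trans hU)
    (norm_zp_of_comm (mem_Gm.1 hg).1) h3
  by_contra g1
  have h6 := H.h.le_eleven H.hm h2 h3 fun d => g1 (H.h.fpf h2 (mem_HH_iff.2 (h1.trans hU)) H.k.ncop
    ((H.h.mem_KK h2).2 ⟨h3, d⟩) (mem_Gm.1 hg).1)
  have h7 := card_le_card (insert_subset (mem_fe.2 (mem_Gm.1 hg).2) (mem_HH_iff.1 h5))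
  rw [card_insert_of_notMem H.hy, H.e] at h7
  omega

theorem four (hp : p ∈ fe Ω c) : ∃ T : Finset Ω, T.card = 4 ∧ Gm c y ⊓ HH G {p} ≤ HH G T := by
  have hb' : c • y ≠ y := fun e => H.hy (mem_fe.2 e)
  have k1 := fun i j => pow_smul_ne (i := i) (j := j) H.k.pr H.k.ord hb'
  have k2 : ∀ i, p ≠ c ^ i • y := fun i e => H.hy (by
    have := pow_mem (show c ∈ stabilizer G p from mem_fe.1 hp) i
    rwa [← smul_left_cancel (c ^ i) (this.trans e)])
  have hd : D4 p y (c • y) (c ^ 2 • y) := ⟨by simpa using k2 0, by simpa using k2 1, k2 2, hb'.symm,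
    by simpa using k1 0 2 (by omega) (by omega), by simpa using k1 1 2 (by omega) (by omega)⟩
  refine ⟨_, hd.card, fun g hg => mem_HH4.2 ?_⟩
  obtain ⟨h1, h2⟩ := mem_Gm.1 hg.1
  exact ⟨hg.2 p (mem_singleton_self p), h2, by simpa using comm_fix h1 h2 1, comm_fix h1 h2 2⟩

theorem exx : ∃ x ∈ Gm c y, x ^ 3 = 1 ∧ (fe Ω c ∩ fe Ω x).card = 2 ∧
    ∀ a ∈ fe Ω c, ∃ g ∈ Gm c y, x • g • a = g • a := by
  obtain ⟨R, hR⟩ := exists_isSylowIn 3 (Gm c y)
  obtain ⟨p, hp, h1⟩ := exists_fix hR.isP (hR.le.trans Gm_SS) (by rw [H.e]; decide)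
  obtain ⟨T, h4, hT⟩ := H.four hp
  have hc := H.h.cyc h4 (by decide) H.k.dvd (fun g hg => hT ⟨hR.le hg, fun a ha => by
    rw [mem_singleton.1 ha]; exact h1 g hg⟩) hR.isP
  have key : ∀ a ∈ fe Ω c, ∃ g ∈ Gm c y, ∃ x ∈ R, orderOf x = 3 ∧ x • g • a = g • a := fun a ha => by
    obtain ⟨x, k1, k2, k3, k4, -⟩ := H.h.T0 H.hm H.k ha H.hy
    obtain ⟨g, hg, e⟩ := hR.exists_cj_le (pg_zpowers (k := 1) (by rw [pow_one, k1.pow]))
      (zpowers_le.2 (mem_Gm.2 ⟨k2, k4⟩))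
    exact ⟨g, hg, _, e (cj_mem g (mem_zpowers x)), (orderOf_cj g x).trans k1.ord, by
      rw [mul_smul, inv_smul_smul, mul_smul, k3]⟩
  obtain ⟨-, -, x, hx, o, -⟩ := key p hp
  have x3 : x ^ 3 = 1 := o ▸ pow_orderOf_eq_one x
  refine ⟨x, hR.le hx, x3, ?_, fun a ha => ?_⟩
  · have e1 := card_modEq_fe (p := 3) (k := 1) (by rw [pow_one, x3]) (Gm_SS (hR.le hx))
    have e2 : ¬ 4 ≤ (fe Ω c ∩ fe Ω x).card := fun d => by
      have := H.one (hR.le hx) inter_subset_left d (mem_HH_iff.2 inter_subset_right)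
      simp [this] at o
    rw [H.e, Nat.ModEq] at e1
    omega
  · obtain ⟨g, hg, x', hx', o', e⟩ := key a ha
    exact ⟨g, hg, mem_fe.1 (fe_mono (H80.mem_zpowers_of_orderOf_dvd hc hx hx' (by rw [o, o']))
      (mem_fe.2 e))⟩

variable (hx : x ∈ Gm c y) (x3 : x ^ 3 = 1) (hpq : p ≠ q) (hf : fe Ω c ∩ fe Ω x = {p, q})
include hx x3 hpq hf

theorem lemB (tr : ∀ a ∈ (fe Ω c).erase p, ∃ g ∈ Gm c y ⊓ HH G {p}, g • q = a) : False := by
  have hp := mem_inter.1 (hf.ge (mem_insert_self p {q}))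
  have hq := mem_inter.1 (hf.ge (mem_insert_of_mem (mem_singleton_self q)))
  have hq' : q ∈ (fe Ω c).erase p := mem_erase.2 ⟨hpq.symm, hq.1⟩
  have c10 : ((fe Ω c).erase p).card = 10 := by rw [card_erase_of_mem hp.1, H.e]
  have hS : Gm c y ⊓ HH G {p} ≤ SS G ((fe Ω c).erase p) := fun g hg => by
    rw [erase_eq]; exact SS_sdiff (Gm_SS hg.1) (HH_le_SS hg.2)
  obtain ⟨T, h4, hT⟩ := H.four hp.1
  have e1 : orb (Gm c y ⊓ HH G {p}) q = (fe Ω c).erase p :=
    (orb_sub hS hq').antisymm fun a ha => mem_orb.2 (tr a ha)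
  obtain ⟨t, ht, o⟩ := exists_ord (S := Gm c y ⊓ HH G {p}) 2
    ((show 2 ∣ 10 by decide).trans (c10 ▸ e1 ▸ card_orb_dvd _ q))
  set S := (Gm c y ⊓ HH G {p}) ⊓ PP G 2 T with hSd
  have tS : t ∈ S := ⟨ht, (H.h.mem_PP H.hm h4).2 ⟨hT ht, 1, by rw [pow_one, ← o, pow_orderOf_eq_one]⟩⟩
  have hn : ∀ g ∈ Gm c y ⊓ HH G {p}, g ∈ 𝐍(S) := fun g hg =>
    inf_normalizer_le_normalizer_inf ⟨le_normalizer hg, norm_PP (HH_le_SS (hT hg))⟩
  have hl : ∀ a ∈ (fe Ω c).erase p, (orb S a).card = (orb S q).card := fun a ha => by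
    obtain ⟨g, hg, rfl⟩ := tr a ha
    rw [orb_smul (hn g hg), card_smul_finset]
  have l1 := dvd_of_orb (inf_le_left.trans hS) hl
  obtain ⟨j, hj⟩ := ((H.h.pg_PP H.hm h4).to_le (inf_le_right : S ≤ _)).exists_card_eq
  obtain ⟨i, -, l2⟩ := (Nat.dvd_prime_pow Nat.prime_two).1 (hj ▸ card_orb_dvd S q)
  have xp : x ∈ Gm c y ⊓ HH G {p} := ⟨hx, fun a ha => by rw [mem_singleton.1 ha]; exact mem_fe.1 hp.2⟩
  have l3 := card_modEq_fe (p := 3) (k := 1) (A := orb S q) (by rw [pow_one, x3])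
    (mem_SS_of fun a ha => by
      have := orb_smul (a := q) (hn x xp)
      rw [mem_fe.1 hq.2] at this
      exact this.ge (smul_mem_smul_finset ha))
  have e2 : orb S q ∩ fe Ω x = {q} := by
    refine eq_singleton_iff_unique_mem.2 ⟨mem_inter.2 ⟨self_mem_orb, hq.2⟩, fun a ha => ?_⟩
    have h1 := mem_erase.1 (orb_sub (inf_le_left.trans hS) hq' (mem_inter.1 ha).1)
    have h2 := hf.le (mem_inter.2 ⟨h1.2, (mem_inter.1 ha).2⟩)
    simpa [h1.1] using h2
  rw [e2, card_singleton, l2, Nat.ModEq] at l3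
  rw [c10, l2] at l1
  have l4 : i = 0 := by
    have : ¬ 2 ≤ i := fun d => absurd ((pow_dvd_pow 2 d).trans l1) (by decide)
    interval_cases i
    · rfl
    · exact absurd l3 (by decide)
  have := H.one ht.1 (erase_subset p _) (by omega) fun a ha =>
    card_le_one.1 (show (orb S a).card ≤ 1 by rw [hl a ha, l2, l4, pow_zero]) _ (mem_orb.2 ⟨t, tS, rfl⟩) _ self_mem_orb
  simp [this] at o

theorem two (cv : ∀ a ∈ fe Ω c, a ∈ orb (Gm c y) p ∨ a ∈ orb (Gm c y) q) (hn : q ∉ orb (Gm c y) p)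
    (hs : (orb (Gm c y) p).card + (orb (Gm c y) q).card = 11)
    (hl : (orb (Gm c y) p).card ≤ 5) : False := by
  have hp := mem_inter.1 (hf.ge (mem_insert_self p {q}))
  have l3 := card_modEq_fe (p := 3) (k := 1) (A := orb (Gm c y) p) (by rw [pow_one, x3]) (orb_SS hx)
  have e2 : orb (Gm c y) p ∩ fe Ω x = {p} := by
    refine eq_singleton_iff_unique_mem.2 ⟨mem_inter.2 ⟨self_mem_orb, hp.2⟩, fun a ha => ?_⟩
    have h2 := hf.le (mem_inter.2 ⟨orb_sub Gm_SS hp.1 (mem_inter.1 ha).1, (mem_inter.1 ha).2⟩)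
    rcases mem_insert.1 h2 with e | e
    · exact e
    · exact absurd (mem_singleton.1 e ▸ (mem_inter.1 ha).1) hn
  rw [e2, card_singleton, Nat.ModEq] at l3
  rcases (by omega : (orb (Gm c y) p).card = 1 ∨ (orb (Gm c y) p).card = 4) with e | e
  · have h1 : ∀ a ∈ orb (Gm c y) p, a = p := fun a ha => card_le_one.1 e.le _ ha _ self_mem_orb
    refine H.lemB hx x3 hpq hf fun a ha => ?_
    obtain ⟨g, hg, e⟩ := mem_orb.1 ((cv a (mem_erase.1 ha).2).resolve_left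
      fun d => (mem_erase.1 ha).1 (h1 a d))
    exact ⟨g, ⟨hg, fun a ha => by rw [mem_singleton.1 ha]; exact h1 _ (mem_orb.2 ⟨g, hg, rfl⟩)⟩, e⟩
  · have : Fact (Nat.Prime 7) := ⟨by decide⟩
    obtain ⟨g, hg, o⟩ := exists_ord (S := Gm c y) 7
      ((by omega : (orb (Gm c y) q).card = 7) ▸ card_orb_dvd _ q)
    have := H.one hg (orb_sub Gm_SS hp.1) e.ge (fix_of_cop (orb_SS hg) (by rw [o, e]; decide))
    simp [this] at o

theorem full (e : orb (Gm c y) p = fe Ω c) : False := by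
  have hp := mem_inter.1 (hf.ge (mem_insert_self p {q}))
  have hq := mem_inter.1 (hf.ge (mem_insert_of_mem (mem_singleton_self q)))
  have : Fact (Nat.Prime 11) := ⟨by decide⟩
  obtain ⟨g, hg, o⟩ := exists_ord (S := Gm c y) 11 (H.e ▸ e ▸ card_orb_dvd _ p)
  obtain ⟨a, ha, h1⟩ : ∃ a ∈ fe Ω c, g • a ≠ a := by
    by_contra d
    push Not at d
    have := H.one hg Subset.rfl H.k.four d
    simp [this] at o
  obtain ⟨f, -, h2⟩ := H26.exists_frame (p := 11) (α := sma (Gm c y) (fe Ω c) Gm_SS)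
    ((card_sma _).trans H.e) (c := (⟨g, hg⟩ : Gm c y))
    (Subtype.ext (by rw [← o]; exact pow_orderOf_eq_one g)) (a := ⟨a, ha⟩)
    fun d => h1 (congrArg Subtype.val d)
  rcases H26.affine_or_two_trans h2 with d | d
  · obtain ⟨s, b, d⟩ := d ⟨x, hx⟩
    obtain ⟨i, hi⟩ := f.surjective ⟨p, hp.1⟩
    obtain ⟨j, hj⟩ := f.surjective ⟨q, hq.1⟩
    have e1 : s * i + b = i := f.injective (by
      rw [← d, hi]; exact Subtype.ext (mem_fe.1 hp.2))
    have e2 : s * j + b = j := f.injective (by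
      rw [← d, hj]; exact Subtype.ext (mem_fe.1 hq.2))
    have ij : i - j ≠ 0 := sub_ne_zero.2 fun d => hpq (congrArg Subtype.val (hi.symm.trans (d ▸ hj)))
    have s1 : s = 1 := mul_right_cancel₀ ij (by linear_combination e1 - e2)
    have b0 : b = 0 := by rw [s1] at e1; linear_combination e1
    have : fe Ω c ⊆ {p, q} := fun a ha => hf.le (mem_inter.2 ⟨ha, mem_fe.2 (by
      obtain ⟨l, hl⟩ := f.surjective ⟨a, ha⟩
      have := d l
      rw [s1, b0, one_mul, add_zero, hl] at this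
      exact congrArg Subtype.val this)⟩)
    have := (card_le_card this).trans card_le_two
    rw [H.e] at this
    omega
  · refine H.lemB hx x3 hpq hf fun a ha => ?_
    obtain ⟨g, k1, k2⟩ := is_two_pretransitive_iff.1 d
      (show (⟨p, hp.1⟩ : sma (Gm c y) (fe Ω c) Gm_SS) ≠ ⟨q, hq.1⟩ from
        fun d => hpq (congrArg Subtype.val d))
      (show (⟨p, hp.1⟩ : sma (Gm c y) (fe Ω c) Gm_SS) ≠ ⟨a, (mem_erase.1 ha).2⟩ from
        fun d => (mem_erase.1 ha).1 (congrArg Subtype.val d).symm)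
    exact ⟨g, ⟨g.2, fun a ha => by rw [mem_singleton.1 ha]; exact congrArg Subtype.val k1⟩,
      congrArg Subtype.val k2⟩

end Hy

end P11

open P11 in
theorem Q4.phi11 (h : Q4 G Ω m) (hm : ¬ 2 ∣ m) (k : Gd Ω m 3 c) : (fe Ω c).card ≠ 11 := fun e => by
  obtain ⟨y, hy⟩ : ∃ y : Ω, y ∉ fe Ω c := by
    by_contra d
    push Not at d
    exact k.ne (h.faith c fun a => mem_fe.1 (d a))
  have H : Hy m c y := ⟨h, hm, k, e, hy⟩
  obtain ⟨x, hx, x3, h2, h3⟩ := H.exx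
  obtain ⟨p, q, hpq, hf⟩ := card_eq_two.1 h2
  have hp := mem_inter.1 (hf.ge (mem_insert_self p {q}))
  have hq := mem_inter.1 (hf.ge (mem_insert_of_mem (mem_singleton_self q)))
  have cv : ∀ a ∈ fe Ω c, a ∈ orb (Gm c y) p ∨ a ∈ orb (Gm c y) q := fun a ha => by
    obtain ⟨g, hg, e1⟩ := h3 a ha
    have := hf.le (mem_inter.2 ⟨(Gm_SS hg a).2 ha, mem_fe.2 e1⟩)
    exact (mem_insert.1 this).imp (fun d => mem_orb.2 ⟨g⁻¹, inv_mem hg, by rw [← d, inv_smul_smul]⟩)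
      fun d => mem_orb.2 ⟨g⁻¹, inv_mem hg, by rw [← mem_singleton.1 d, inv_smul_smul]⟩
  by_cases hn : q ∈ orb (Gm c y) p
  · exact H.full hx x3 hpq hf ((orb_sub Gm_SS hp.1).antisymm fun a ha =>
      (cv a ha).elim id fun d => orb_eq hn ▸ d)
  have hd : Disjoint (orb (Gm c y) p) (orb (Gm c y) q) := disjoint_left.2 fun a h1 h2 =>
    hn (by rw [← orb_eq h1, orb_eq h2]; exact self_mem_orb)
  have hs := card_union_of_disjoint hd
  rw [show orb (Gm c y) p ∪ orb (Gm c y) q = fe Ω c from (union_subset (orb_sub Gm_SS hp.1)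
    (orb_sub Gm_SS hq.1)).antisymm fun a ha => mem_union.2 (cv a ha), e] at hs
  by_cases hl : (orb (Gm c y) p).card ≤ 5
  · exact H.two hx x3 hpq hf cv hn hs.symm hl
  · exact H.two hx x3 hpq.symm (hf.trans (pair_comm p q)) (fun a ha => (cv a ha).symm)
      (fun d => disjoint_left.1 hd self_mem_orb d) (by omega) (by omega)

end H41.Q4
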