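import Mathlib
import Cfsg.Agent.Base
import Cfsg.Agent.Lib.Quad4.T0
import Cfsg.Agent.Lib.Quad4.LemZ

/-! An element of order three of a complement with four or five fixed points. -/

set_option autoImplicit false
set_option linter.style.haveILetI false
set_option linter.unusedSectionVars false

namespace H41.Q4

open Subgroup MulAction H69 Finset
open scoped Pointwise

variable {G Ω : Type*} [Group G] [Finite G] [MulAction G Ω] [Fintype Ω] [DecidableEq Ω]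
variable {m r : ℕ} {T : Finset Ω} {c : G}

namespace P45

variable {x z w : G} {a b y p q s t u : Ω}

theorem T1 (h : Q4 G Ω m) (hm : ¬ 2 ∣ m) (k : Gd Ω m 3 c) (h6 : (fe Ω c).card ≤ 6) (ha : a ∈ fe Ω c)
    (hb : b ∉ fe Ω c) : ∃ x, Gd Ω m 3 x ∧ Commute x c ∧ x • a = a ∧ x • b = b ∧
      (fe Ω c \ fe Ω x).card = 3 := by
  obtain ⟨x, h1, h2, h3, h4, h5⟩ := h.T0 hm k ha hb
  have e1 := card_modEq_fe (p := 3) (k := 1) h1.pow (SS_of_comm (Ω := Ω) h2)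
  have e2 := card_sdiff_add_card_inter (fe Ω c) (fe Ω x)
  have e3 : 0 < (fe Ω c ∩ fe Ω x).card := card_pos.2 ⟨a, mem_inter.2 ⟨ha, mem_fe.2 h3⟩⟩
  have e4 := k.four
  unfold Nat.ModEq at e1
  exact ⟨x, h1, h2, h3, h4, by omega⟩

theorem nrm3 (hc : Commute x c) (h3 : (fe Ω c \ fe Ω x).card = 3) (x3 : x ^ 3 = 1)
    (hs : ∀ a ∈ fe Ω c, x • a = a ∨ a = s ∨ a = t ∨ a = u) (st : s ≠ t) (su : s ≠ u) (tu : t ≠ u) :
    ∃ z : G, z ^ 3 = 1 ∧ Commute z c ∧ (∀ a : Ω, x • a = a → z • a = a) ∧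
      z • s = t ∧ z • t = u ∧ z • u = s := by
  have e : fe Ω c \ fe Ω x = {s, t, u} := eq_of_subset_of_card_le (fun a ha => by
    rw [mem_sdiff, mem_fe (x := x)] at ha
    simpa using (hs a ha.1).resolve_left ha.2) (h3 ▸ card_le_three)
  have n : ∀ a ∈ ({s, t, u} : Finset Ω), x • a ≠ a := fun a ha e' =>
    (mem_sdiff.1 (e ▸ ha)).2 (mem_fe.2 e')
  obtain ⟨z, hz, k⟩ := cyc3 (e ▸ SS_sdiff (SS_of_comm hc) (HH_le_SS mem_HH_fe)) (n s (by simp))
    (n t (by simp)) (n u (by simp)) st su tu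
  rcases hz with rfl | rfl
  · exact ⟨z, x3, hc, fun _ h => h, k⟩
  · exact ⟨x * x, by rw [← pow_two, ← pow_mul, mul_comm, pow_mul, x3, one_pow], hc.mul_left hc,
      fun a h => by rw [mul_smul, h, h], k⟩

/-- `y` is fixed by an element of order three fixing exactly `p`, `q` in the fixed set of `c` -/
def Good (c : G) (y p q : Ω) : Prop := ∃ x : G, x ^ 3 = 1 ∧ Commute x c ∧ x • y = y ∧ x • p = p ∧
  x • q = q ∧ (fe Ω c \ fe Ω x).card = 3

theorem eqns_p45 : True := by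
  have := @Good.eq_1.{0, 0}
  trivial

theorem Good.symm (h : Good c y p q) : Good c y q p :=
  let ⟨x, h1, h2, h3, h4, h5, h6⟩ := h; ⟨x, h1, h2, h3, h5, h4, h6⟩

theorem Good.smul (h : Good c y p q) (hz : Commute z c) (hy : z • y = y) : Good c y (z • p) (z • q) := by
  obtain ⟨x, h1, h2, h3, h4, h5, h6⟩ := h
  have k : ∀ a : Ω, x • a = a → (z * x * z⁻¹) • z • a = z • a := fun a e => by
    rw [mul_smul, mul_smul, inv_smul_smul, e]
  refine ⟨z * x * z⁻¹, by rw [conj_pow, h1, mul_one, mul_inv_cancel],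
    (hz.mul_left h2).mul_left hz.inv_left, hy ▸ k y h3, k p h4, k q h5, ?_⟩
  rw [← h6]
  refine (card_bij (fun a _ => z • a) (fun a ha => ?_) (fun _ _ _ _ e => MulAction.injective z e)
    fun a ha => ⟨z⁻¹ • a, ?_, smul_inv_smul z a⟩).symm
  · rw [mem_sdiff] at ha ⊢
    exact ⟨(SS_of_comm hz a).2 ha.1, fun e => ha.2 (mem_fe_conj.1 e)⟩
  · rw [mem_sdiff] at ha ⊢
    exact ⟨(SS_of_comm hz.inv_left a).2 ha.1,
      fun e => ha.2 (by simpa using (mem_fe_conj (g := z)).2 e)⟩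

theorem Good.nrm (h : Good c y p q) (hs : ∀ a ∈ fe Ω c, a = p ∨ a = q ∨ a = s ∨ a = t ∨ a = u)
    (st : s ≠ t) (su : s ≠ u) (tu : t ≠ u) : ∃ z : G, z ^ 3 = 1 ∧ Commute z c ∧ z • y = y ∧ z • p = p ∧
      z • q = q ∧ z • s = t ∧ z • t = u ∧ z • u = s := by
  obtain ⟨x, h1, h2, h3, h4, h5, h6⟩ := h
  obtain ⟨z, k1, k2, k3, k4⟩ := nrm3 h2 h6 h1 (fun a ha => by
    rcases hs a ha with rfl | rfl | e
    exacts [Or.inl h4, Or.inl h5, Or.inr e]) st su tu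
  exact ⟨z, k1, k2, k3 y h3, k3 p h4, k3 q h5, k4⟩

theorem out3 (h : Q4 G Ω m) (hm : ¬ 2 ∣ m) (k : Gd Ω m 3 c) (h5 : (fe Ω c).card = 5) (w3 : w ^ 3 = 1)
    (w1 : w ≠ 1) (hp : p ∈ fe Ω c) (hq : q ∈ fe Ω c) (pq : p ≠ q) (wp : w • p = p) (wq : w • q = q) :
    (fe Ω w \ fe Ω c).card ≤ 3 := by
  have e2 := card_sdiff_add_card_inter (fe Ω w) (fe Ω c)
  have e3 : 1 < (fe Ω w ∩ fe Ω c).card :=
    one_lt_card.2 ⟨p, mem_inter.2 ⟨mem_fe.2 wp, hp⟩, q, mem_inter.2 ⟨mem_fe.2 wq, hq⟩, pq⟩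
  by_cases h4 : 4 ≤ (fe Ω w).card
  · have := h.card_fe_eq hm k (k.of w1 w3 h4)
    omega
  · omega

theorem nine (h : Q4 G Ω m) (hm : ¬ 2 ∣ m) (k : Gd Ω m 3 c) (h5 : (fe Ω c).card = 5) (hd : D4 p q s t)
    (pu : p ≠ u) (qu : q ≠ u) (su : s ≠ u) (tu : t ≠ u) (hs' : {p, q, s, t} ⊆ fe Ω c) (hu : u ∈ fe Ω c)
    (hs : ∀ a ∈ fe Ω c, a = p ∨ a = q ∨ a = s ∨ a = t ∨ a = u) :
    ∃ A : Finset Ω, A.card ≤ 9 ∧ ∀ y ∉ fe Ω c, Good c y p q → y ∈ A := by
  by_cases ex : ∃ y, Good c y p q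
  swap
  · exact ⟨∅, by simp, fun y _ g => absurd ⟨y, g⟩ ex⟩
  obtain ⟨y₁, g₁⟩ := ex
  obtain ⟨x, x3, xc, -, xp, xq, xs, xt, xu⟩ := g₁.nrm hs hd.cd su tu
  obtain ⟨v, hv, v2, vp, vq, vs, vt⟩ := h.exists_swap hm k hd hs'
  have h7 : (fe Ω c).card ≠ 7 := by omega
  have vv : ∀ a : Ω, v • v • a = a := fun a => by rw [← mul_smul, v2, one_smul]
  have vu : v • u = u := by
    rcases hs _ ((NZ_SS hv u).2 hu) with e | e | e | e | e
    · exact absurd (by rw [← vp, ← e, vv]) qu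
    · exact absurd (by rw [← vq, ← e, vv]) pu
    · exact absurd (by rw [← vs, ← e, vv]) tu
    · exact absurd (by rw [← vt, ← e, vv]) su
    · exact e
  have xN := norm_zp_of_comm xc
  obtain ⟨z, zN, z3, -, zc, zx, zy⟩ := h.lemZ hm k hv v2
    (fun u hu => h.lemZ' hm k h7 hd hs' hv (i := 1) (by rw [pow_one, pow_two, v2]) vp vq vs vt hu) xN x3
    (h.sharpM hm k h7 hd hs' (mul_mem (mul_mem (mul_mem hv xN) hv) xN) (by simp [mul_smul, *])
      (by simp [mul_smul, *]) (by simp [mul_smul, *]) (by simp [mul_smul, *]))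
  have hp : p ∈ fe Ω c := hs' (by simp)
  have hq : q ∈ fe Ω c := hs' (by simp)
  have hs0 : s ∈ fe Ω c := hs' (by simp)
  have za : ∀ a ∈ fe Ω c, z • a = x • a := fun a ha => by
    rw [eq_comm, ← inv_smul_eq_iff, ← mul_smul]; exact zx.2 a ha
  have o : ∀ e ∈ zpowers c, (fe Ω (z * e) \ fe Ω c).card ≤ 3 := fun e he => by
    have ea : ∀ a ∈ fe Ω c, (z * e) • a = x • a := fun a ha => by
      rw [mul_smul, zpowers_le.2 mem_HH_fe he a ha, za a ha]
    refine out3 h hm k h5 ?_ (fun e1 => hd.cd ?_) hp hq hd.ab (by rw [ea p hp, xp]) (by rw [ea q hq, xq])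
    · obtain ⟨i, rfl⟩ := he
      rw [(zc _ (zpow_mem self_MM i)).mul_pow, z3, one_mul, ← zpow_natCast, ← zpow_mul, mul_comm,
        zpow_mul, zpow_natCast, k.pow, one_zpow]
    · rw [← xs, ← ea s hs0, e1, one_smul]
  refine ⟨fe Ω (z * 1) \ fe Ω c ∪ fe Ω (z * c) \ fe Ω c ∪ fe Ω (z * (c * c)) \ fe Ω c, ?_, fun y hy g => ?_⟩
  · have := o 1 (one_mem _)
    have := o c (mem_zpowers c)
    have := o (c * c) (mul_mem (mem_zpowers c) (mem_zpowers c))
    refine (card_union_le _ _).trans ((Nat.add_le_add_right (card_union_le _ _) _).trans (by omega))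
  · obtain ⟨x', a3, ac, ay, ap, aq, as, at', -⟩ := g.nrm hs hd.cd su tu
    have m1 := h.sharpM hm k h7 hd hs' (mul_mem (inv_mem xN) (norm_zp_of_comm ac))
      (by rw [mul_smul, ap, inv_smul_eq_iff, xp]) (by rw [mul_smul, aq, inv_smul_eq_iff, xq])
      (by rw [mul_smul, as, inv_smul_eq_iff, xs]) (by rw [mul_smul, at', inv_smul_eq_iff, xt])
    have m2 := zy x' a3 (by simpa [mul_assoc] using mul_mem zx m1)
    have m3 : ∀ e, z⁻¹ * x' = e → y ∈ fe Ω (z * e) \ fe Ω c := fun e he =>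
      mem_sdiff.2 ⟨mem_fe.2 (by rw [← he, mul_inv_cancel_left, ay]), hy⟩
    simp only [mem_union]
    rcases mem_zp3 k.pow m2 with e | e | e
    exacts [Or.inl (Or.inl (m3 _ e)), Or.inl (Or.inr (m3 _ e)), Or.inr (m3 _ e)]

theorem comb {g : Fin 5 → Fin 5 → Prop} (sy : ∀ {i j}, g i j → g j i) (ex : ∀ i, ∃ j, j ≠ i ∧ g i j)
    (r1 : ∀ p q s t u, [p, q, s, t, u].Nodup → g p q → g p s → g p t)
    (r2 : ∀ p q s t u, [p, q, s, t, u].Nodup → g p q → g s t → g t u) : g 0 1 ∨ g 2 3 ∨ g 4 0 := by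
  obtain ⟨q, q0, hq⟩ := ex 0
  obtain ⟨s, s0, hs⟩ := ex 1
  have c : ∀ i : Fin 5, i = 0 ∨ i = 1 ∨ i = 2 ∨ i = 3 ∨ i = 4 := by decide
  rcases c q with rfl | rfl | rfl | rfl | rfl
  · exact absurd rfl q0
  · exact Or.inl hq
  · rcases c s with rfl | rfl | rfl | rfl | rfl
    · exact Or.inl (sy hs)
    · exact absurd rfl s0
    · exact Or.inr (Or.inl (r1 2 0 1 3 4 (by decide) (sy hq) (sy hs)))
    · exact Or.inr (Or.inr (sy (r2 1 3 2 0 4 (by decide) hs (sy hq))))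
    · exact Or.inr (Or.inl (r2 1 4 0 2 3 (by decide) hs hq))
  · rcases c s with rfl | rfl | rfl | rfl | rfl
    · exact Or.inl (sy hs)
    · exact absurd rfl s0
    · exact Or.inr (Or.inr (sy (r2 1 2 3 0 4 (by decide) hs (sy hq))))
    · exact Or.inr (Or.inl (sy (r1 3 0 1 2 4 (by decide) (sy hq) (sy hs))))
    · exact Or.inr (Or.inl (sy (r2 1 4 0 3 2 (by decide) hs hq)))
  · exact Or.inr (Or.inr (sy hq))

theorem le32 (h : Q4 G Ω m) (hm : ¬ 2 ∣ m) (k : Gd Ω m 3 c) (h5 : (fe Ω c).card = 5) :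
    Fintype.card Ω ≤ 32 := by
  let ε := (equivFinOfCardEq h5).symm
  let e : Fin 5 → Ω := fun i => ε i
  have ei : Function.Injective e := Subtype.val_injective.comp ε.injective
  have em : ∀ i, e i ∈ fe Ω c := fun i => (ε i).2
  have es : ∀ a ∈ fe Ω c, ∃ i, a = e i := fun a ha => ⟨ε.symm ⟨a, ha⟩, by simp [e]⟩
  have all : ∀ p q s t u : Fin 5, [p, q, s, t, u].Nodup →
      (∀ i, i = p ∨ i = q ∨ i = s ∨ i = t ∨ i = u) ∧ p ≠ q ∧ p ≠ s ∧ p ≠ t ∧ q ≠ s ∧ q ≠ t ∧ s ≠ t ∧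
        p ≠ u ∧ q ≠ u ∧ s ≠ u ∧ t ≠ u := by decide +kernel
  have hs : ∀ {p q s t u : Fin 5}, [p, q, s, t, u].Nodup →
      ∀ a ∈ fe Ω c, a = e p ∨ a = e q ∨ a = e s ∨ a = e t ∨ a = e u := fun n a ha => by
    obtain ⟨i, rfl⟩ := es a ha
    simpa only [ei.eq_iff] using (all _ _ _ _ _ n).1 i
  have n9 : ∀ p q s t u : Fin 5, [p, q, s, t, u].Nodup →
      ∃ A : Finset Ω, A.card ≤ 9 ∧ ∀ y ∉ fe Ω c, Good c y (e p) (e q) → y ∈ A := fun p q s t u n => by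
    obtain ⟨-, a1, a2, a3, a4, a5, a6, a7, a8, a9, a10⟩ := all _ _ _ _ _ n
    exact nine h hm k h5 ⟨ei.ne a1, ei.ne a2, ei.ne a3, ei.ne a4, ei.ne a5, ei.ne a6⟩ (ei.ne a7) (ei.ne a8)
      (ei.ne a9) (ei.ne a10) (by simp [insert_subset_iff, em]) (em u) (hs n)
  have nr : ∀ {y : Ω} {p q s t u : Fin 5}, [p, q, s, t, u].Nodup → Good c y (e p) (e q) →
      ∃ z : G, z ^ 3 = 1 ∧ Commute z c ∧ z • y = y ∧ z • e p = e p ∧ z • e q = e q ∧ z • e s = e t ∧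
        z • e t = e u ∧ z • e u = e s := fun n g => by
    obtain ⟨-, -, -, -, -, -, a6, -, -, a9, a10⟩ := all _ _ _ _ _ n
    exact g.nrm (hs n) (ei.ne a6) (ei.ne a9) (ei.ne a10)
  obtain ⟨A, a1, a2⟩ := n9 0 1 2 3 4 (by decide)
  obtain ⟨B, b1, b2⟩ := n9 2 3 0 1 4 (by decide)
  obtain ⟨C, c1, c2⟩ := n9 4 0 1 2 3 (by decide)
  have : (univ : Finset Ω) ⊆ fe Ω c ∪ A ∪ B ∪ C := fun y _ => by
    simp only [mem_union]
    by_cases hy : y ∈ fe Ω c
    · exact Or.inl (Or.inl (Or.inl hy))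
    have := comb (g := fun i j => Good c y (e i) (e j)) Good.symm (fun i => ?_) (fun p q s t u n g g' => ?_)
      fun p q s t u n g g' => ?_
    · rcases this with g | g | g
      exacts [Or.inl (Or.inl (Or.inr (a2 y hy g))), Or.inl (Or.inr (b2 y hy g)), Or.inr (c2 y hy g)]
    · obtain ⟨x, x1, x2, x3, x4, x5⟩ := T1 h hm k (by omega) (em i) hy
      have e2 := card_sdiff_add_card_inter (fe Ω c) (fe Ω x)
      obtain ⟨b, hb, bi⟩ := exists_mem_ne (s := fe Ω c ∩ fe Ω x) (by omega) (e i)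
      obtain ⟨j, rfl⟩ := es b (mem_inter.1 hb).1
      exact ⟨j, fun e' => bi (e' ▸ rfl), x, x1.pow, x2, x4, x3, mem_fe.1 (mem_inter.1 hb).2, x5⟩
    · obtain ⟨z, -, z1, z2, z3, -, z4, -⟩ := nr n g
      simpa only [z3, z4] using g'.smul z1 z2
    · obtain ⟨z, -, z1, z2, -, -, z3, z4, -⟩ := nr n g
      simpa only [z3, z4] using g'.smul z1 z2
  have e1 := card_le_card this
  have e2 := card_union_le (fe Ω c ∪ A ∪ B) C
  have e3 := card_union_le (fe Ω c ∪ A) B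
  have e4 := card_union_le (fe Ω c) A
  rw [card_univ] at e1
  omega

end P45

open P45

theorem Q4.phi4 (h : Q4 G Ω m) (hm : ¬ 2 ∣ m) (k : Gd Ω m 3 c) (h4 : (fe Ω c).card = 4) : Big G Ω := by
  obtain ⟨p, q, s, t, hd, e⟩ := exists_D4 h4
  obtain ⟨v, hv, v2, vp, vq, vs, vt⟩ := h.exists_swap hm k hd e.ge
  have all : ∀ a ∈ fe Ω c, a = p ∨ a = q ∨ a = s ∨ a = t := fun a ha => by simpa [e] using ha
  have fix : ∀ y ∉ fe Ω c, v • y = y := fun y hy => by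
    obtain ⟨x, x1, x2, x3, x4, x5⟩ := T1 h hm k (by omega) (a := p) (by simp [e]) hy
    obtain ⟨x', y1, y2, y3, y4, y5⟩ := T1 h hm k (by omega) (a := s) (by simp [e]) hy
    obtain ⟨z, -, z2, z3, z4, z5, z6⟩ := nrm3 (s := s) (t := t) (u := q) x2 x5 x1.pow (fun a ha => by
      rcases all a ha with rfl | rfl | rfl | rfl <;> simp [x3]) hd.cd hd.bc.symm hd.bd.symm
    obtain ⟨w, -, w2, w3, w4, w5, w6⟩ := nrm3 (s := p) (t := t) (u := q) y2 y5 y1.pow (fun a ha => by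
      rcases all a ha with rfl | rfl | rfl | rfl <;> simp [y3]) hd.ad hd.ab hd.bd.symm
    have gN := norm_zp_of_comm (z2.mul_left w2)
    have g1 : (z * w) • p = q := by rw [mul_smul, w4, z5]
    have g2 : (z * w) • q = p := by rw [mul_smul, w6, z3 p x3]
    have g3 : (z * w) • s = t := by rw [mul_smul, w3 s y3, z4]
    have g4 : (z * w) • t = s := by rw [mul_smul, w5, z6]
    have g5 : (z * w) • y = y := by rw [mul_smul, w3 y y4, z3 y x4]
    generalize z * w = g at *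
    obtain ⟨i, i1, i2⟩ := exists_inv_pow (h.oddM hm k (mul_mem gN gN) fun a ha => by
      rcases all a ha with rfl | rfl | rfl | rfl <;> simp [mul_smul, *])
    rw [h.swap_uniq hm k (by omega) hd e.ge hv v2 vp vq vs vt (pow_mem gN i) i2 (odd_pow_smul i1 g1 g2)
      (odd_pow_smul i1 g2 g1) (odd_pow_smul i1 g3 g4) (odd_pow_smul i1 g4 g3)]
    exact odd_pow_smul i1 g5 g5
  refine h.big_of_supp (x := v) (fun e1 => hd.ab (by rw [← vp, e1, one_smul])) ?_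
  have e1 : (univ : Finset Ω) ⊆ fe Ω v ∪ fe Ω c := fun y _ =>
    mem_union.2 ((em _).symm.imp (fun hy => mem_fe.2 (fix y hy)) id)
  have e2 := (card_le_card e1).trans (card_union_le _ _)
  rw [card_univ] at e2
  omega

theorem Q4.phi5 (h : Q4 G Ω m) (hm : ¬ 2 ∣ m) (k : Gd Ω m 3 c) (h5 : (fe Ω c).card = 5) :
    Big G Ω ∨ Fintype.card Ω = 23 := by
  have e1 := le32 h hm k h5
  have e2 := h.seven_le
  have e3 := card_modEq_fe (p := 3) (k := 1) k.pow (SS_univ (Ω := Ω))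
  rw [univ_inter, card_univ, h5] at e3
  unfold Nat.ModEq at e3
  have b : ∀ j p : ℕ, p.Prime → 1 ≤ j → j < p → j < 3 → Fintype.card Ω = j * p + 3 →
      Big G Ω ∨ Fintype.card Ω = 23 := fun j p a1 a2 a3 a4 a5 => Or.inl (h.big_of_card a1 a5 a2 a3 a4)
  obtain e | e | e | e | e | e | e | e | e : Fintype.card Ω = 8 ∨ Fintype.card Ω = 11 ∨
      Fintype.card Ω = 14 ∨ Fintype.card Ω = 17 ∨ Fintype.card Ω = 20 ∨ Fintype.card Ω = 23 ∨
      Fintype.card Ω = 26 ∨ Fintype.card Ω = 29 ∨ Fintype.card Ω = 32 := by omega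
  · exact b 1 5 (by norm_num) (by norm_num) (by norm_num) (by norm_num) e
  · obtain ⟨T, hT⟩ := h.exT
    obtain ⟨t, t1, -, t2⟩ := h.PP_inv hm hT
    have f1 := h.mod_FF hm hT
    have f2 := h.blk hm hT
    have f3 := card_le_card (mem_HH_iff.1 (PP_le_FF t1))
    unfold Nat.ModEq at f1
    exact Or.inl (h.big_of_supp t2 (by omega))
  · exact b 1 11 (by norm_num) (by norm_num) (by norm_num) (by norm_num) e
  · exact b 2 7 (by norm_num) (by norm_num) (by norm_num) (by norm_num) e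
  · exact b 1 17 (by norm_num) (by norm_num) (by norm_num) (by norm_num) e
  · exact Or.inr e
  · exact b 1 23 (by norm_num) (by norm_num) (by norm_num) (by norm_num) e
  · exact b 2 13 (by norm_num) (by norm_num) (by norm_num) (by norm_num) e
  · exact b 1 29 (by norm_num) (by norm_num) (by norm_num) (by norm_num) e

end H41.Q4
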