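import Mathlib
import Cfsg.Agent.Base
import Cfsg.Agent.Lib.Quad4.P45

/-! An element of order three of a complement does not have six fixed points. -/

set_option autoImplicit false
set_option linter.style.haveILetI false
set_option linter.unusedSectionVars false

namespace H41.Q4

open Subgroup MulAction H69 Finset
open scoped Pointwise

variable {G Ω : Type*} [Group G] [Finite G] [MulAction G Ω] [Fintype Ω] [DecidableEq Ω]
variable {m r : ℕ} {T : Finset Ω} {c : G}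

namespace P6

variable {x z v a x₀ y₀ : G} {y p q s t : Ω}

theorem NI (h : Q4 G Ω m) (hm : ¬ 2 ∣ m) (k : Gd Ω m 3 z) (h6 : (fe Ω z).card = 6) (v2 : v * v = 1)
    (hv : v * z * v = z⁻¹) : False := by
  have vi : v⁻¹ = v := inv_eq_of_mul_eq_one_right v2
  have vN : v ∈ 𝐍(zpowers z) := norm_zp (by rw [vi, hv]; exact inv_mem (mem_zpowers z))
  have fin : ¬ Commute v z := fun e => k.ne (eq_one_of_pows (a := 2) (b := 3) (by norm_num) (by
    rw [e.eq, mul_assoc, v2, mul_one] at hv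
    rw [pow_two]; exact mul_eq_one_iff_eq_inv.2 hv) k.pow)
  have v2' : v ^ 2 ^ 1 = 1 := by rw [pow_one, pow_two, v2]
  have vv : ∀ a : Ω, v • v • a = a := fun a => by rw [← mul_smul, v2, one_smul]
  have e := card_sdiff_add_card_inter (fe Ω z) (fe Ω v)
  by_cases h4 : 4 ≤ (fe Ω z ∩ fe Ω v).card
  · obtain ⟨T, hT, c4⟩ := exists_subset_card_eq h4
    have := h.eq_one_MM hm k ⟨vN, h.sharp hm k (by omega) c4 (hT.trans inter_subset_left) vN
      (mem_HH_iff.2 (hT.trans inter_subset_right))⟩ v2'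
    exact fin (this ▸ Commute.one_left z)
  · obtain ⟨a, ha⟩ := card_pos.1 (by omega : 0 < (fe Ω z \ fe Ω v).card)
    obtain ⟨d, hd, hd'⟩ := exists_mem_notMem_of_card_lt_card (s := {a, v • a}) (t := fe Ω z \ fe Ω v)
      (card_le_two.trans_lt (by omega))
    rw [mem_sdiff, mem_fe (x := v)] at ha hd
    simp only [mem_insert, mem_singleton, not_or] at hd'
    refine fin (h.lemZ' hm k (by omega) (a := a) (b := v • a) (d := d) (e := v • d)
      ⟨Ne.symm ha.2, Ne.symm hd'.1, fun e => hd'.2 (by rw [e, vv]), Ne.symm hd'.2,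
        fun e => hd'.1 (MulAction.injective v e).symm, Ne.symm hd.2⟩ ?_ vN v2' rfl (vv a) rfl (vv d) self_MM)
    simp only [insert_subset_iff, singleton_subset_iff, NZ_SS vN _]
    exact ⟨ha.1, ha.1, hd.1, hd.1⟩

theorem NI4 (h : Q4 G Ω m) (hm : ¬ 2 ∣ m) (k : Gd Ω m 3 c) (h6 : (fe Ω c).card = 6) (v2 : v * v = 1)
    (hv : v * z * v = z⁻¹) (z3 : z ^ 3 = 1) (z1 : z ≠ 1) (hd : D4 p q s t) (h1 : z • p = p)
    (h2 : z • q = q) (h3 : z • s = s) (h4 : z • t = t) : False := by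
  have g := k.of z1 z3 (hd.card ▸ card_le_card (mem_HH_iff.1 (mem_HH4.2 ⟨h1, h2, h3, h4⟩)))
  exact NI h hm g ((h.card_fe_eq hm k g).trans h6) v2 hv

/-- the last step -/
theorem last (h : Q4 G Ω m) (hm : ¬ 2 ∣ m) (k : Gd Ω m 3 c) (h6 : (fe Ω c).card = 6) (v2 : v * v = 1)
    (vc : Commute v c) (hy : y ∉ fe Ω c) (ha : a = c ∨ a = c * c) (x3 : x₀ ^ 3 = 1) (y3 : y₀ ^ 3 = 1)
    (vx : v * x₀ * v = x₀⁻¹) (vy : v * y₀ * v = y₀⁻¹) (xc : Commute x₀ c) (yc : Commute y₀ c)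
    (xy : Commute x₀ y₀) (e1 : x₀ • a • y = y) (e2 : y₀ • y = a • y) (e3 : (x₀ * y₀) • p ≠ p) : False := by
  have cy : c • y ≠ y := fun e => hy (mem_fe.2 e)
  have ca : ∀ {g : G}, Commute g c → Commute g a := fun e => by
    rcases ha with rfl | rfl
    exacts [e, e.mul_right e]
  have vz : v * (x₀ * y₀) * v = (x₀ * y₀)⁻¹ := by
    rw [xy.eq, mul_inv_rev, ← vx, ← vy, ← xy.eq]
    calc _ = v * x₀ * (v * v) * y₀ * v := by rw [v2]; group
      _ = _ := by group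
  have zy : (x₀ * y₀) • y = y := by rw [mul_smul, e2, e1]
  have ne : ∀ e : G, Commute e x₀ → Commute e a → v • y ≠ e • y := fun e f1 f2 f3 => by
    have b1 : x₀⁻¹ • y = a • y := by rw [inv_smul_eq_iff, e1]
    have b2 : a • x₀ • y = y := by rw [← mul_smul, ← (ca xc).eq, mul_smul, e1]
    have b3 : v • x₀ • y = e • a • y := by
      rw [← b1, ← mul_smul e, f1.inv_right.eq, mul_smul, ← f3, ← vx, ← mul_smul, ← mul_smul,
        mul_assoc _ v v, v2, mul_one]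
    have b4 : e • a • a • y = e • y := by
      rw [← mul_smul e a, f2.eq, mul_smul, ← b3, ← mul_smul, ← (ca vc).eq, mul_smul, b2, f3]
    have b5 := MulAction.injective e b4
    have c3 : c • c • c • y = y := by rw [← mul_smul, ← mul_smul, ← pow_three', k.pow, one_smul]
    rcases ha with rfl | rfl
    · rw [b5] at c3; exact cy c3
    · rw [mul_smul, mul_smul, c3] at b5; exact cy b5
  have n := fun i j => pow_smul_ne (i := i) (j := j) Nat.prime_three k.ord cy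
  refine NI4 h hm k h6 v2 vz (by rw [xy.mul_pow, x3, y3, one_mul]) (fun e => e3 (by rw [e, one_smul]))
    (p := c ^ 0 • y) (q := c ^ 1 • y) (s := c ^ 2 • y) (t := v • y)
    ⟨n 0 1 (by omega) (by omega), n 0 2 (by omega) (by omega),
      (ne _ (xc.symm.pow_left _) (ca ((Commute.refl c).pow_left _))).symm, n 1 2 (by omega) (by omega),
      (ne _ (xc.symm.pow_left _) (ca ((Commute.refl c).pow_left _))).symm,
      (ne _ (xc.symm.pow_left _) (ca ((Commute.refl c).pow_left _))).symm⟩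
    (comm_fix (xc.mul_left yc) zy _) (comm_fix (xc.mul_left yc) zy _) (comm_fix (xc.mul_left yc) zy _) ?_
  rw [← smul_left_cancel_iff v, ← mul_smul, ← mul_smul, vz, ← mul_smul, v2, one_smul, inv_smul_eq_iff, zy]

end P6

open P45 P6

theorem Q4.phi6 (h : Q4 G Ω m) (hm : ¬ 2 ∣ m) (k : Gd Ω m 3 c) : (fe Ω c).card ≠ 6 := fun h6 => by
  have h7 : (fe Ω c).card ≠ 7 := by omega
  obtain ⟨y, -, hy⟩ := exists_mem_notMem_of_card_lt_card (s := fe Ω c) (t := univ)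
    (by have := h.seven_le; rw [card_univ]; omega)
  obtain ⟨a₀, ha₀⟩ := card_pos.1 (by omega : 0 < (fe Ω c).card)
  obtain ⟨x', k', xc', -, xy', c3⟩ := T1 h hm k (by omega) ha₀ hy
  have c4 := card_sdiff_add_card_inter (fe Ω c) (fe Ω x')
  obtain ⟨p1, p2, p3, n12, n13, n23, e1⟩ := card_eq_three.1 c3
  obtain ⟨p4, p5, p6, n45, n46, n56, e2⟩ := card_eq_three.1 (by omega : (fe Ω c ∩ fe Ω x').card = 3)
  have i1 : ∀ a ∈ ({p1, p2, p3} : Finset Ω), a ∈ fe Ω c ∧ a ∉ fe Ω x' := fun a ha => mem_sdiff.1 (e1 ▸ ha)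
  have i2 : ∀ a ∈ ({p4, p5, p6} : Finset Ω), a ∈ fe Ω c ∧ a ∈ fe Ω x' := fun a ha => mem_inter.1 (e2 ▸ ha)
  simp only [mem_insert, mem_singleton, forall_eq_or_imp, forall_eq] at i1 i2
  obtain ⟨⟨m1, o1⟩, ⟨m2, o2⟩, m3, o3⟩ := i1
  obtain ⟨⟨m4, o4⟩, ⟨m5, o5⟩, m6, o6⟩ := i2
  have all : ∀ a ∈ fe Ω c, (a = p1 ∨ a = p2 ∨ a = p3) ∨ a = p4 ∨ a = p5 ∨ a = p6 := fun a ha => by
    by_cases e : a ∈ fe Ω x'
    · exact Or.inr (by simpa [e2] using mem_inter.2 ⟨ha, e⟩)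
    · exact Or.inl (by simpa [e1] using mem_sdiff.2 ⟨ha, e⟩)
  have nn : ∀ {a b : Ω}, a ∉ fe Ω x' → b ∈ fe Ω x' → a ≠ b := fun ha hb e => ha (e ▸ hb)
  obtain ⟨x, x3, xc, xf, x1, x2, x3'⟩ := nrm3 xc' c3 k'.pow (fun a ha => by
    by_cases e : a ∈ fe Ω x'
    · exact Or.inl (mem_fe.1 e)
    · exact Or.inr (by simpa [e1] using mem_sdiff.2 ⟨ha, e⟩)) n12 n13 n23
  have x4 := xf _ (mem_fe.1 o4)
  have x5 := xf _ (mem_fe.1 o5)
  have x6 := xf _ (mem_fe.1 o6)
  have xy := xf _ xy'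
  have xN := norm_zp_of_comm xc
  have d1 : D4 p1 p2 p3 p4 := ⟨n12, n13, nn o1 o4, n23, nn o2 o4, nn o3 o4⟩
  have ny : ∀ {a : Ω}, a ∈ fe Ω c → a ≠ y := fun ha e => hy (e ▸ ha)
  have kx : Gd Ω m 3 x := k.of (fun e => n12 (by rw [← x1, e, one_smul])) x3
    ((⟨n45, n46, ny m4, n56, ny m5, ny m6⟩ : D4 p4 p5 p6 y).card ▸
      card_le_card (mem_HH_iff.1 (mem_HH4.2 ⟨x4, x5, x6, xy⟩)))
  -- the second three-cycle
  obtain ⟨g, gN, g1, g2, g3, -⟩ := h.tr4W hm k d1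
    (⟨n45, n46, (nn o1 o4).symm, n56, (nn o1 o5).symm, (nn o1 o6).symm⟩ : D4 p4 p5 p6 p1)
    m1 m2 m3 m4 m4 m5 m6 m1
  have wf : ∀ a ∈ fe Ω c, a ∉ fe Ω x' → (g * x * g⁻¹) • a = a := fun a ha ha' => by
    rw [mul_smul, mul_smul, ← eq_inv_smul_iff]
    rcases all _ ((NZ_SS (inv_mem gN) a).2 ha) with (e | e | e) | e | e | e
    · exact absurd (by rwa [inv_smul_eq_iff.1 e, g1]) ha'
    · exact absurd (by rwa [inv_smul_eq_iff.1 e, g2]) ha'
    · exact absurd (by rwa [inv_smul_eq_iff.1 e, g3]) ha'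
    all_goals rwa [e]
  have w1 := wf _ m1 o1
  have w2 := wf _ m2 o2
  have w3 := wf _ m3 o3
  have w4 : (g * x * g⁻¹) • p4 = p5 := by rw [← g1, mul_smul, inv_smul_smul, mul_smul, x1, g2]
  have wN := mul_mem (mul_mem gN xN) (inv_mem gN)
  have w3' : (g * x * g⁻¹) ^ 3 = 1 := by rw [conj_pow, x3, mul_one, mul_inv_cancel]
  generalize g * x * g⁻¹ = w at w1 w2 w3 w4 wN w3'
  clear wf g1 g2 g3 gN g
  -- the involution
  obtain ⟨g, gN, g1, g2, g3, g4⟩ := h.tr4W hm k d1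
    (⟨n12.symm, n23, nn o2 o5, n13, nn o1 o5, nn o3 o5⟩ : D4 p2 p1 p3 p5) m1 m2 m3 m4 m2 m1 m3 m5
  have gi : ∀ {a b : Ω}, g • a = g • b → a = b := fun e => MulAction.injective g e
  have g5 : g • p5 = p4 ∧ g • p6 = p6 := by
    have a5 : g • p5 = p4 ∨ g • p5 = p6 := by
      rcases all _ ((NZ_SS gN p5).2 m5) with (e | e | e) | e | e | e
      exacts [absurd (gi (g2.trans e.symm)) (nn o2 o5), absurd (gi (g1.trans e.symm)) (nn o1 o5),
        absurd (gi (g3.trans e.symm)) (nn o3 o5), Or.inl e, absurd (gi (g4.trans e.symm)) n45, Or.inr e]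
    have a6 : g • p6 = p4 ∨ g • p6 = p6 := by
      rcases all _ ((NZ_SS gN p6).2 m6) with (e | e | e) | e | e | e
      exacts [absurd (gi (g2.trans e.symm)) (nn o2 o6), absurd (gi (g1.trans e.symm)) (nn o1 o6),
        absurd (gi (g3.trans e.symm)) (nn o3 o6), Or.inl e, absurd (gi (g4.trans e.symm)) n46, Or.inr e]
    rcases a5 with a5 | a5 <;> rcases a6 with a6 | a6
    · exact absurd (gi (a5.trans a6.symm)) n56
    · exact ⟨a5, a6⟩
    · have := (h.sharpM hm k h7 (⟨nn o3 o4, nn o3 o5, nn o3 o6, n45, n46, n56⟩ : D4 p3 p4 p5 p6)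
        (by simp [insert_subset_iff, *]) (mul_mem (mul_mem gN gN) gN) (by simp [mul_smul, *])
        (by simp [mul_smul, *]) (by simp [mul_smul, *]) (by simp [mul_smul, *])).2 p1 m1
      rw [mul_smul, mul_smul, g1, g2, g1] at this
      exact absurd this.symm n12
    · exact absurd (gi (a5.trans a6.symm)) n56
  obtain ⟨i, i1, v2⟩ := exists_inv_pow (h.oddM hm k (mul_mem gN gN) fun a ha => by
    rcases all a ha with (rfl | rfl | rfl) | rfl | rfl | rfl <;> simp [mul_smul, *])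
  have v1 := odd_pow_smul i1 g1 g2
  have v2' := odd_pow_smul i1 g2 g1
  have v3 := odd_pow_smul i1 g3 g3
  have v4 := odd_pow_smul i1 g4 g5.1
  have v5 := odd_pow_smul i1 g5.1 g4
  have v6 := odd_pow_smul i1 g5.2 g5.2
  have vN := pow_mem gN i
  generalize g ^ i = v at v1 v2 v2' v3 v4 v5 v6 vN
  clear g1 g2 g3 g4 g5 gi gN g i1 i
  have vM : ∀ u ∈ MM Ω c, Commute v u := fun u hu => h.lemZ' hm k h7
    (⟨n12, nn o1 o4, nn o1 o5, nn o2 o4, nn o2 o5, n45⟩ : D4 p1 p2 p4 p5) (by simp [insert_subset_iff, *])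
    vN (i := 1) (by rw [pow_one, pow_two, v2]) v1 v2' v4 v5 hu
  have s1 : {p1, p2, p3, p4} ⊆ fe Ω c := by simp [insert_subset_iff, *]
  obtain ⟨x₀, xN₀, x03, vx, xM, a1, a2⟩ := h.lemZ hm k vN v2 vM xN x3 (h.sharpM hm k h7
    (⟨nn o1 o4, nn o1 o5, nn o1 o6, n45, n46, n56⟩ : D4 p1 p4 p5 p6) (by simp [insert_subset_iff, *])
    (mul_mem (mul_mem (mul_mem vN xN) vN) xN) (by simp [mul_smul, *]) (by simp [mul_smul, *])
    (by simp [mul_smul, *]) (by simp [mul_smul, *]))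
  obtain ⟨y₀, yN₀, y03, vy, yM, b1, -⟩ := h.lemZ hm k vN v2 vM wN w3' (h.sharpM hm k h7 d1 s1
    (mul_mem (mul_mem (mul_mem vN wN) vN) wN) (by simp [mul_smul, *]) (by simp [mul_smul, *])
    (by simp [mul_smul, *]) (by simp [mul_smul, *]))
  have xa : ∀ a ∈ fe Ω c, x₀ • a = x • a := fun a ha => by
    rw [eq_comm, ← inv_smul_eq_iff, ← mul_smul]; exact a1.2 a ha
  have ya : ∀ a ∈ fe Ω c, y₀ • a = w • a := fun a ha => by
    rw [eq_comm, ← inv_smul_eq_iff, ← mul_smul]; exact b1.2 a ha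
  have y1 := (ya _ m1).trans w1
  have y2 := (ya _ m2).trans w2
  have y3 := (ya _ m3).trans w3
  have y4 := (ya _ m4).trans w4
  have x01 : x₀ ≠ 1 := fun e => n12 (by rw [← x1, ← xa _ m1, e, one_smul])
  have y0y : y₀ • y ≠ y := fun e => NI4 h hm k h6 v2 vy y03 (fun e => n45 (by rw [← y4, e, one_smul]))
    (⟨n12, n13, ny m1, n23, ny m2, ny m3⟩ : D4 p1 p2 p3 y) y1 y2 y3 e
  have x0y : x₀ • y ≠ y := fun e => NI4 h hm k h6 v2 vx x03 x01
    (⟨n45, n46, ny m4, n56, ny m5, ny m6⟩ : D4 p4 p5 p6 y) ((xa _ m4).trans x4) ((xa _ m5).trans x5)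
    ((xa _ m6).trans x6) e
  replace a2 := a2 x x3 a1
  have ex : x = x₀ * (x₀⁻¹ * x) := (mul_inv_cancel_left _ _).symm
  generalize x₀⁻¹ * x = a at a1 a2 ex
  have an : a ≠ 1 := fun e => x0y (by rwa [ex, e, mul_one] at xy)
  have uN := mul_mem (inv_mem (mul_mem xN yN₀)) (mul_mem yN₀ xN)
  have uM := h.sharpM hm k h7 d1 s1 uN (by simp [mul_smul, inv_smul_eq_iff, x1, y1, y2])
    (by simp [mul_smul, inv_smul_eq_iff, x2, y2, y3]) (by simp [mul_smul, inv_smul_eq_iff, x3', y1, y3])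
    (by simp [mul_smul, inv_smul_eq_iff, x4, x5, y4])
  have eu : y₀ * x = x * y₀ * ((x * y₀)⁻¹ * (y₀ * x)) := (mul_inv_cancel_left _ _).symm
  generalize (x * y₀)⁻¹ * (y₀ * x) = u at uN uM eu
  have uc := odd_comm3 k.pow uN (h.oddM hm k uN uM.2)
  have ux : Commute x u := by
    obtain ⟨j, rfl⟩ := a2
    exact ex ▸ (xM u uM).mul_left (uc.zpow_right j).symm
  have eu' : y₀ * x * y₀⁻¹ = x * u := by rw [eu, mul_assoc x, (yM u uM).eq]; group
  have u3 : u ^ 3 = 1 := by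
    have := congrArg (· ^ 3) eu'
    simp only [conj_pow, ux.mul_pow, x3] at this
    simpa using this.symm
  have u1 : u = 1 := by
    by_contra u1
    have ai := inv_mem a2
    rw [← zpowers_eq_of_prime Nat.prime_three k.ord (h.zp_of_MM hm k uM u3) u1] at ai
    have e0 : x₀ = x * a⁻¹ := by rw [ex, mul_inv_cancel_right]
    have kk : ∀ g, x₀ ≠ g * x * g⁻¹ := fun g e =>
      NI h hm (e ▸ kx.conj g) ((h.card_fe_eq hm k (e ▸ kx.conj g)).trans h6) v2 vx
    rcases mem_zp3 u3 ai with e | e | e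
    · exact an (inv_eq_one.1 e)
    · exact kk y₀ (by rw [e0, e, eu'])
    · refine kk (y₀ * y₀) ?_
      rw [show y₀ * y₀ * x * (y₀ * y₀)⁻¹ = y₀ * (y₀ * x * y₀⁻¹) * y₀⁻¹ by group, eu', ← conj_mul, eu',
        (yM u uM).eq, e0, e]
      group
  rw [u1, mul_one] at eu
  have yx : Commute y₀ x := eu
  have yc := yM c self_MM
  have xc₀ := xM c self_MM
  have xy₀ : Commute x₀ y₀ := by
    rw [show x₀ = x * a⁻¹ by rw [ex, mul_inv_cancel_right]]
    exact yx.symm.mul_left (yM a a1).symm.inv_left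
  have cy : c • y ≠ y := fun e => hy (mem_fe.2 e)
  have n := fun i j => pow_smul_ne (i := i) (j := j) Nat.prime_three k.ord cy
  have eo : {c ^ 0 • y, c ^ 1 • y, c ^ 2 • y} = fe Ω x \ fe Ω c := by
    have o : ∀ i : ℕ, c ^ i • y ∈ fe Ω x \ fe Ω c := fun i => mem_sdiff.2 ⟨mem_fe.2 (comm_fix xc xy i),
      fun e => hy ((SS_of_comm ((Commute.refl c).pow_left i) y).1 e)⟩
    refine eq_of_subset_of_card_le (by simp only [insert_subset_iff, singleton_subset_iff, o, and_self]) ?_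
    rw [card_eq_three.2 ⟨_, _, _, n 0 1 (by omega) (by omega), n 0 2 (by omega) (by omega),
      n 1 2 (by omega) (by omega), rfl⟩]
    have f1 := card_sdiff_add_card_inter (fe Ω x) (fe Ω c)
    have f2 : ({p4, p5, p6} : Finset Ω).card ≤ (fe Ω x ∩ fe Ω c).card :=
      card_le_card (by simp [insert_subset_iff, mem_fe (x := x), x4, x5, x6, m4, m5, m6])
    rw [card_eq_three.2 ⟨_, _, _, n45, n46, n56, rfl⟩] at f2
    rw [h.card_fe_eq hm k kx] at f1
    omega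
  have hb : y₀ • y ∈ fe Ω x \ fe Ω c :=
    (SS_sdiff (SS_of_comm yx) (SS_of_comm yc) y).2 (mem_sdiff.2 ⟨mem_fe.2 xy, hy⟩)
  rw [← eo] at hb
  simp only [mem_insert, mem_singleton, pow_zero, one_smul, y0y, false_or, pow_one, pow_two] at hb
  have ha := (mem_zp3 k.pow a2).resolve_left an
  have e1 : x₀ • a • y = y := by rw [← mul_smul, ← ex, xy]
  have L := fun {y₁ : G} (h1 : y₁ ^ 3 = 1) h2 h3 h4 h5 (h6' : y₁ • p1 = p1) =>
    last h hm k h6 v2 (vM c self_MM) hy ha x03 h1 vx h2 xc₀ h3 h4 e1 h5 (p := p1)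
      (by rw [mul_smul, h6', xa _ m1, x1]; exact n12.symm)
  have L1 := fun e => L y03 vy yc xy₀ e y1
  have L2 := fun e => L (y₁ := y₀ * y₀) (by rw [← pow_two, ← pow_mul, mul_comm, pow_mul, y03, one_pow])
    (by rw [mul_inv_rev, ← vy]
        calc _ = v * y₀ * (v * v) * y₀ * v := by rw [v2]; group
          _ = _ := by group)
    (yc.mul_left yc) (xy₀.mul_right xy₀) e (by rw [mul_smul, y1, y1])
  rcases ha with rfl | rfl <;> rcases hb with hb | hb
  · exact L1 hb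
  · refine L2 ?_
    rw [mul_smul, hb, ← mul_smul, (yc.mul_right yc).eq, mul_smul, hb, ← mul_smul, ← mul_assoc,
      ← pow_three', k.pow, one_mul]
  · refine L2 ?_
    rw [mul_smul, hb, ← mul_smul, yc.eq, mul_smul, hb, mul_smul]
  · exact L1 hb

end H41.Q4
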