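import Mathlib
import Cfsg.Agent.Base
import Cfsg.Agent.Lib.Quad4.LemZ

/-! An element of order three in a Frobenius complement does not fix seven points. -/

set_option autoImplicit false
set_option linter.style.haveILetI false
set_option linter.unusedSectionVars false

namespace H41.Q4

open Subgroup MulAction H69 Finset
open scoped Pointwise

variable {G Ω : Type*} [Group G] [Finite G] [MulAction G Ω] [Fintype Ω] [DecidableEq Ω]
variable {m r : ℕ} {T : Finset Ω} {c : G}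

theorem P7.exists_v (h : Q4 G Ω m) (hm : ¬ 2 ∣ m) (k : Gd Ω m 3 c) (h7 : (fe Ω c).card = 7)
    {a b d e : Ω} (hd : D4 a b d e) (hs : {a, b, d, e} ⊆ fe Ω c) :
    ∃ v : G, Commute v c ∧ (∃ i, v ^ 2 ^ i = 1) ∧ v ∈ HH G (fe Ω c \ {a, b, d, e}) ∧
      v • a = d ∧ v • d = a ∧ v • b = e ∧ v • e = b := by
  simp only [insert_subset_iff, singleton_subset_iff] at hs
  obtain ⟨g, hg, g1, g2, g3, g4⟩ := h.tr4W hm k hd
    (⟨hd.bc, hd.bd, hd.ab.symm, hd.cd, hd.ac.symm, hd.ad.symm⟩ : D4 b d e a)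
    hs.1 hs.2.1 hs.2.2.1 hs.2.2.2 hs.2.1 hs.2.2.1 hs.2.2.2 hs.1
  have h1 := pow_fact (SS_sdiff (NZ_SS hg) (mem_SS_of (T := {a, b, d, e}) (by simp [g1, g2, g3, g4])))
  rw [card_sdiff_of_subset (by simp [insert_subset_iff, hs]), h7, hd.card] at h1
  have h2 : Commute (g ^ 6) c := by simpa [← pow_mul] using sq_comm3 k.pow (pow_mem hg 3)
  obtain ⟨s, i, hi⟩ := ppart (g ^ 6) 2 1
  rw [← pow_mul, ← pow_succ'] at hi
  have ho : Odd (2 ^ 1 * s + 1) := ⟨s, by simp⟩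
  have e6 : ∀ x : Ω, g ^ 6 • x = g • g • g • g • g • g • x := fun x => by simp [pow_succ, mul_smul]
  have e1 : g ^ 6 • a = d := by rw [e6, g1, g2, g3, g4, g1, g2]
  have e2 : g ^ 6 • d = a := by rw [e6, g3, g4, g1, g2, g3, g4]
  have e3 : g ^ 6 • b = e := by rw [e6, g2, g3, g4, g1, g2, g3]
  have e4 : g ^ 6 • e = b := by rw [e6, g4, g1, g2, g3, g4, g1]
  exact ⟨_, h2.pow_left _, ⟨i, hi⟩, pow_mem h1 _, odd_pow_smul ho e1 e2, odd_pow_smul ho e2 e1,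
    odd_pow_smul ho e3 e4, odd_pow_smul ho e4 e3⟩

theorem Q4.phi7 (h : Q4 G Ω m) (hm : ¬ 2 ∣ m) (k : Gd Ω m 3 c) : (fe Ω c).card ≠ 7 := fun h7 => by
  obtain ⟨T, hT, h4⟩ := k.exT
  obtain ⟨a, b, d, e, hd, rfl⟩ := exists_D4 h4
  obtain ⟨v, v1, ⟨i, v2⟩, v3, va, vd, vb, ve⟩ := P7.exists_v h hm k h7 hd hT
  obtain ⟨p, q, s, pq, ps, qs, hA⟩ := card_eq_three.1
    (show (fe Ω c \ {a, b, d, e}).card = 3 by rw [card_sdiff_of_subset hT, h7, h4])
  have hp := mem_sdiff.1 (hA.ge (show p ∈ ({p, q, s} : Finset Ω) by simp))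
  have hq := mem_sdiff.1 (hA.ge (show q ∈ ({p, q, s} : Finset Ω) by simp))
  have hs := mem_sdiff.1 (hA.ge (show s ∈ ({p, q, s} : Finset Ω) by simp))
  rw [hA, mem_HH3] at v3
  simp only [mem_insert, mem_singleton, not_or] at hp hq hs
  have hd' : D4 b e p q := ⟨hd.bd, Ne.symm hp.2.2.1, Ne.symm hq.2.2.1, Ne.symm hp.2.2.2.2,
    Ne.symm hq.2.2.2.2, pq⟩
  have hU : {b, e, p, q} ⊆ fe Ω c := by
    simp only [insert_subset_iff, singleton_subset_iff] at hT ⊢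
    exact ⟨hT.2.1, hT.2.2.2, hp.1, hq.1⟩
  have hs' : s ∉ ({b, e, p, q} : Finset Ω) := by simp [hs.2, ps.symm, qs.symm]
  set U : Finset Ω := {b, e, p, q} with hUd
  have u4 : U.card = 4 := hd'.card
  have ho : ∀ z ∈ 𝐍(zpowers c) ⊓ HH G U, Odd (orderOf z) := fun z hz => h.oddW hm k u4 hU hz.1 hz.2
  have h3 : ∀ z ∈ 𝐍(zpowers c) ⊓ HH G U, z ^ 3 ∈ HH G (fe Ω c) := fun z hz => by
    have := pow_fact (SS_sdiff (NZ_SS hz.1) (HH_le_SS hz.2))
    rw [card_sdiff_of_subset hU, h7, u4] at this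
    exact mem_of_cop' (a := 2) (by rw [← pow_mul]; exact HH_of_sdiff (pow_mem hz.2 _) this)
      (ho _ (pow_mem hz 3)).coprime_two_right
  obtain ⟨R, hR, hv⟩ := inv_sylow v2 (inf_normalizer_le_normalizer_inf
    ⟨le_normalizer (norm_zp_of_comm v1), norm_HH (mem_SS_of (T := U)
      (by simp [hUd, vb, ve, v3.1, v3.2.1]))⟩) (odd_card_of ho) 3
  obtain ⟨ρ, rfl⟩ := exists_gen (h.cyc u4 (by decide) k.dvd (hR.le.trans inf_le_right) hR.isP)
  have hρ := hR.le (mem_zpowers ρ)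
  obtain ⟨j, hj⟩ : c ∈ Submonoid.powers ρ := mem_powers_iff_mem_zpowers.2
    (hR.le_of_le_normalizer (pg_zpowers (k := 1) (by rw [pow_one, k.pow])) (zpowers_le.2
      ⟨le_normalizer (mem_zpowers c), mem_HH_iff.2 hU⟩) (hR.le.trans inf_le_left) (mem_zpowers c))
  obtain ⟨l, hl⟩ := exists_cj_pow hv
  have e1 : c ^ l = c ^ 1 := by
    rw [pow_one]
    calc c ^ l = v * c * v⁻¹ := by rw [← hj]; simp only; rw [← conj_pow, hl, pow_right_comm]
      _ = c := by rw [v1.eq, mul_inv_cancel_right]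
  rw [pow_eq_pow_iff_modEq, k.ord, Nat.ModEq] at e1
  have e2 : v • ρ • s = ρ • s := by
    rw [← mul_smul, eq_mul_of_mul_inv_eq hl, mul_smul, v3.2.2, show l = 3 * (l / 3) + 1 by omega,
      pow_succ', mul_smul, pow_mul, pow_mem (h3 ρ hρ) _ s hs.1]
  have e3 : ρ • s = s := by
    have h1 := mem_sdiff.1 ((SS_sdiff (NZ_SS hρ.1) (HH_le_SS hρ.2) s).2 (mem_sdiff.2 ⟨hs.1, hs'⟩))
    by_contra hn
    have h2 : ρ • s ∈ ({a, b, d, e} : Finset Ω) := by
      by_contra h2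
      have := hA.le (mem_sdiff.2 ⟨h1.1, h2⟩)
      have h5 := h1.2
      simp only [hUd, mem_insert, mem_singleton, not_or] at this h5
      tauto
    have h5 := h1.2
    simp only [hUd, mem_insert, mem_singleton, not_or] at h2 h5
    rcases h2 with e | e | e | e
    · exact hd.ac (by rw [← va, ← e, e2])
    · exact h5.1 e
    · exact hd.ac (by rw [← vd, ← e, e2])
    · exact h5.2.1 e
  have e4 : ρ ∈ HH G (insert s U) := fun x hx => (mem_insert.1 hx).elim (fun e => e ▸ e3) (hρ.2 x)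
  have e5 : ρ ∈ HH G (fe Ω c) := by
    have := pow_fact (SS_sdiff (NZ_SS hρ.1) (HH_le_SS e4))
    rw [card_sdiff_of_subset (insert_subset hs.1 hU), h7, card_insert_of_notMem hs', u4] at this
    exact mem_of_cop (a := 2) (HH_of_sdiff (pow_mem e4 _) this) (h3 ρ hρ) (by decide)
  obtain ⟨w, w1, w2, w3⟩ := ((h.hallW hm k u4 hU).resolve_left fun d => by omega).2
  obtain ⟨t, n, ht⟩ := ppart w 3 1
  have hw : w ∈ 𝐍(zpowers c) ⊓ HH G U := ⟨w1, w2⟩
  obtain ⟨g, hg, e6⟩ := hR.exists_cj_le (pg_zpowers ht)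
    (zpowers_le.2 (mul_mem hw (pow_mem (pow_mem hw _) _)))
  have e7 := conj_HH (inv_mem (NZ_SS hg.1)) (zpowers_le.2 e5 (e6 (cj_mem g (mem_zpowers _))))
  rw [inv_inv, ← mul_assoc, ← mul_assoc, inv_mul_cancel, one_mul, inv_mul_cancel_right] at e7
  exact w3 ((mul_mem_cancel_right (pow_mem (h3 w hw) t)).1 e7)

end H41.Q4
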